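import Groth.Agent.QCohDescLib.Hom
import Groth.Agent.TwistLib.ProjSymExt
import Groth.Agent.AmpleLib.Ample

/-!
# Invertibility descends along fpqc families
-/

set_option autoImplicit false
set_option linter.style.haveILetI false
set_option maxHeartbeats 800000

noncomputable section

universe u

open CategoryTheory CategoryTheory.Limits AlgebraicGeometry TopologicalSpace Opposite TensorProduct
open KFlatLib (pb puSec puSecLE)
open AmpleLib (GenOn GenAt)

namespace DescAppLib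

variable {X Y : Scheme.{u}}

/-- A generator of a pullback along a flat map comes from a generator. -/
theorem genAt_of_puSec (f : X ⟶ Y) [Flat f] {M : Y.Modules} {U : Y.Opens} {m : Γ(M, U)} {x : X}
    (hx : f x ∈ U) (h : GenAt (pb f M) (W := f ⁻¹ᵁ U) (puSec f m) (show x ∈ f ⁻¹ᵁ U from hx)) :
    GenAt M m hx := by
  letI := (f.stalkMap x).hom.toAlgebra
  haveI := FpqcPCLib.ff_stalkMap f x
  let N := (DerSch.stalkFunctor Y (f x)).obj M
  let g : N := M.presheaf.germ U (f x) hx m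
  let ψ := ((KFlatLib.stalkPullIso f x).inv.app M).hom
  have hψ : Function.Bijective ψ :=
    ConcreteCategory.bijective_of_isIso ((KFlatLib.stalkPullIso f x).inv.app M)
  have key : ∀ c : X.presheaf.stalk x, ψ (c • ((1 : X.presheaf.stalk x) ⊗ₜ[Y.presheaf.stalk (f x)] g)) =
      c • (pb f M).presheaf.germ (f ⁻¹ᵁ U) x hx (puSec f m) := fun c =>
    (ψ.map_smul c _).trans (congrArg (c • ·) (KFlatLib.stalkPullInv_germ f M x hx m))
  have h2 : Function.Bijective fun c : X.presheaf.stalk x =>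
      c • ((1 : X.presheaf.stalk x) ⊗ₜ[Y.presheaf.stalk (f x)] g) := by
    refine (Function.Bijective.of_comp_iff' hψ _).1 ?_
    rw [show ψ ∘ _ = _ from funext key]
    exact h
  have h3 : (LinearMap.toSpanSingleton (Y.presheaf.stalk (f x)) N g).lTensor (X.presheaf.stalk x) ∘
      (TensorProduct.rid (Y.presheaf.stalk (f x)) (X.presheaf.stalk x)).symm =
      fun c : X.presheaf.stalk x => c • ((1 : X.presheaf.stalk x) ⊗ₜ[Y.presheaf.stalk (f x)] g) := funext fun c => by
    simp [TensorProduct.rid_symm_apply, TensorProduct.smul_tmul']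
  refine (Module.FaithfullyFlat.lTensor_bijective_iff_bijective _ (X.presheaf.stalk x)
    (LinearMap.toSpanSingleton (Y.presheaf.stalk (f x)) N g)).1 ?_
  refine (Function.Bijective.of_comp_iff _
    (TensorProduct.rid (Y.presheaf.stalk (f x)) (X.presheaf.stalk x)).symm.bijective).1 ?_
  rw [h3]
  exact h2

theorem exists_genAt_puSec (f : X ⟶ Y) {M : Y.Modules} {x : X} {W : X.Opens} {e : Γ(pb f M, W)} (hx : x ∈ W)
    (he : GenAt (pb f M) e hx) (O : Y.Opens) (hO : f x ∈ O) :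
    ∃ (U : Y.Opens) (m : Γ(M, U)) (hU : f x ∈ U), U ≤ O ∧
      GenAt (pb f M) (W := f ⁻¹ᵁ U) (puSec f m) (show x ∈ f ⁻¹ᵁ U from hU) := by
  letI := (f.stalkMap x).hom.toAlgebra
  let N := (DerSch.stalkFunctor Y (f x)).obj M
  let ψ₀ := ((KFlatLib.stalkPullIso f x).inv.app M).hom
  let ψ : X.presheaf.stalk x ⊗[Y.presheaf.stalk (f x)] N →+ (DerSch.stalkFunctor X x).obj (pb f M) :=
    ψ₀.toAddMonoidHom
  have hψ : Function.Bijective ψ :=
    ConcreteCategory.bijective_of_isIso ((KFlatLib.stalkPullIso f x).inv.app M)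
  have hψs : ∀ (c : X.presheaf.stalk x) (g : N), ψ (c ⊗ₜ[Y.presheaf.stalk (f x)] g) =
      c • ψ ((1 : X.presheaf.stalk x) ⊗ₜ[Y.presheaf.stalk (f x)] g) := fun c g =>
    (congrArg (fun t => ψ (t ⊗ₜ[Y.presheaf.stalk (f x)] g)) (mul_one c)).symm.trans
      (ψ₀.map_smul c ((1 : X.presheaf.stalk x) ⊗ₜ[Y.presheaf.stalk (f x)] g))
  let g₀ : (DerSch.stalkFunctor X x).obj (pb f M) := (pb f M).presheaf.germ W x hx e
  have main : ∀ (z : X.presheaf.stalk x ⊗[Y.presheaf.stalk (f x)] N) (a : X.presheaf.stalk x),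
      IsUnit a → ψ z = a • g₀ → ∃ g : N, ∃ a' : X.presheaf.stalk x, IsUnit a' ∧
        ψ ((1 : X.presheaf.stalk x) ⊗ₜ[Y.presheaf.stalk (f x)] g) = a' • g₀ := by
    intro z
    induction z using TensorProduct.induction_on with
    | zero =>
      intro a ha h
      rw [map_zero] at h
      have h0 := (ha.smul_eq_zero).1 h.symm
      exact absurd (he.1 (show (1 : X.presheaf.stalk x) • g₀ = (0 : X.presheaf.stalk x) • g₀ by
        rw [h0, smul_zero, smul_zero])) one_ne_zero
    | tmul c g =>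
      intro a ha h
      obtain ⟨a', ha'⟩ := he.2 (ψ ((1 : X.presheaf.stalk x) ⊗ₜ[Y.presheaf.stalk (f x)] g))
      refine ⟨g, a', ?_, ha'.symm⟩
      have h1 : (c * a') • g₀ = a • g₀ := by
        rw [mul_smul, show a' • g₀ = _ from ha', ← hψs, h]
      exact isUnit_of_mul_isUnit_right ((he.1 h1).symm ▸ ha)
    | add z w hz hw =>
      intro a ha h
      obtain ⟨a₁, h1⟩ := he.2 (ψ z)
      obtain ⟨a₂, h2⟩ := he.2 (ψ w)
      have h3 : (a₁ + a₂) • g₀ = a • g₀ := by
        rw [add_smul, show a₁ • g₀ = _ from h1, show a₂ • g₀ = _ from h2, ← map_add, h]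
      rcases IsLocalRing.isUnit_or_isUnit_of_isUnit_add ((he.1 h3).symm ▸ ha) with h' | h'
      · exact hz a₁ h' h1.symm
      · exact hw a₂ h' h2.symm
  obtain ⟨z, hz⟩ := hψ.2 g₀
  obtain ⟨g, a, ha, hg⟩ := main z 1 isUnit_one (hz.trans (one_smul _ g₀).symm)
  obtain ⟨U, hU, m, hm⟩ := M.presheaf.exists_germ_eq (x := f x) g
  refine ⟨U ⊓ O, AmpleLib.res M inf_le_left m, (show f x ∈ U ⊓ O from ⟨hU, hO⟩), inf_le_right, ?_⟩
  have hgerm : (pb f M).presheaf.germ (f ⁻¹ᵁ (U ⊓ O)) x ⟨hU, hO⟩ (puSec f (AmpleLib.res M inf_le_left m)) = a • g₀ := by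
    rw [← hg, ← hm]
    refine ((KFlatLib.stalkPullInv_germ f M x (show f x ∈ U ⊓ O from ⟨hU, hO⟩) (AmpleLib.res M inf_le_left m)).symm).trans ?_
    exact congrArg (fun n : N => ψ ((1 : X.presheaf.stalk x) ⊗ₜ[Y.presheaf.stalk (f x)] n))
      (TopCat.Presheaf.germ_res_apply M.presheaf _ _ _ m)
  show Function.Bijective fun c : X.presheaf.stalk x => c • _
  have h4 : (fun c : X.presheaf.stalk x => c • (pb f M).presheaf.germ (f ⁻¹ᵁ (U ⊓ O)) x ⟨hU, hO⟩
      (puSec f (AmpleLib.res M inf_le_left m))) = (fun c => c • g₀) ∘ (fun c => c * a) := funext fun c => by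
    rw [hgerm, Function.comp_apply]
    exact (mul_smul c a g₀).symm
  rw [h4]
  exact he.comp (IsUnit.isUnit_iff_mulRight_bijective.1 ha)

variable {ι : Type u} {S : Scheme.{u}} {Z : ι → Scheme.{u}} (F : ∀ k, Z k ⟶ S)

/-- A subset of an affine open is open if its preimages in the members of the family are. -/
theorem isOpen_of_family (hf : Presieve.ofArrows Z F ∈ Scheme.fpqcPrecoverage S) {U : S.Opens} (hU : IsAffineOpen U)
    {O : Set S} (hOU : O ⊆ U) (hO : ∀ k, IsOpen (F k ⁻¹' O)) : IsOpen O := by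
  obtain ⟨m, a, V, o, b, -, -, hob, -, hfl, hsurj, hqc⟩ := DescLib.exists_affine_refinement hf hU
  have hq : Topology.IsQuotientMap (Limits.Sigma.desc b) := Flat.isQuotientMap_of_surjective _
  have hopen : IsOpen (U.ι ⁻¹' O) := by
    rw [← hq.isOpen_preimage, isOpen_iff_forall_mem_open]
    intro z hz
    obtain ⟨v, hv⟩ := (sigmaOpenCover V).covers z
    let k := (sigmaOpenCover V).idx z
    refine ⟨Sigma.ι V k '' (o k ⁻¹' (F (a k) ⁻¹' O)), ?_, (Sigma.ι V k).isOpenEmbedding.isOpenMap _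
      ((hO (a k)).preimage (o k).continuous), ⟨v, ?_, hv⟩⟩
    · rintro _ ⟨w, hw, rfl⟩
      show (Sigma.ι V k ≫ Limits.Sigma.desc b ≫ U.ι) w ∈ O
      rw [Sigma.ι_desc_assoc, ← hob k]
      exact hw
    · show (o k ≫ F (a k)) v ∈ O
      rw [hob k, ← Sigma.ι_desc (f := V) b k, Category.assoc]
      show (Limits.Sigma.desc b ≫ U.ι) ((sigmaOpenCover V).f _ v) ∈ O
      rw [hv]
      exact hz
  have e : O = U.ι '' (U.ι ⁻¹' O) := by
    rw [Set.image_preimage_eq_of_subset]
    rw [Scheme.Opens.range_ι]; exact hOU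
  rw [e]
  exact U.ι.isOpenEmbedding.isOpenMap _ hopen

/-- A module whose pullbacks along an fpqc family are free of rank one is invertible. -/
theorem isInvertible_of_family (hf : Presieve.ofArrows Z F ∈ Scheme.fpqcPrecoverage S) (N : S.Modules)
    (e : ∀ k, Γ(pb (F k) N, ⊤)) (he : ∀ k, GenOn (pb (F k) N) (e k)) : PicF.IsInvertible N := by
  haveI : ∀ k, Flat (F k) := fun k => DescLib.ofArrows_flat hf k
  have hex : ∀ x : S, ∃ (V : S.Opens) (s : Γ(N, V)), x ∈ V ∧ GenOn N s := by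
    intro x
    obtain ⟨k, z, rfl⟩ := DescLib.ofArrows_surj hf x
    obtain ⟨W, hW, hxW, -⟩ := exists_isAffineOpen_mem_and_subset (U := (⊤ : S.Opens)) (x := F k z) trivial
    obtain ⟨U₀, m₀, hxU₀, -, hgen₀⟩ := exists_genAt_puSec (F k) (M := N) (x := z) (W := ⊤) trivial
      ((he k).genAt trivial) W hxW
    obtain ⟨U, hU, hxU, hUU₀⟩ := exists_isAffineOpen_mem_and_subset hxU₀
    let m : Γ(N, U) := AmpleLib.res N hUU₀ m₀
    let O : Set S := {y | ∃ hy : y ∈ U, GenAt N m hy}
    have hiff : ∀ l (w : Z l) (hw : F l w ∈ U), GenAt N m hw ↔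
        GenAt (pb (F l) N) (W := F l ⁻¹ᵁ U) (puSec (F l) m) (show w ∈ F l ⁻¹ᵁ U from hw) := fun l w hw =>
      ⟨fun h => TwistLib.GenAt.puSec (F l) h, fun h => genAt_of_puSec (F l) hw h⟩
    have hOpen : IsOpen O := isOpen_of_family F hf hU (fun y hy => hy.1) fun l => by
      obtain ⟨c, hc⟩ := (he l (F l ⁻¹ᵁ U) le_top).2 (puSec (F l) m)
      have : F l ⁻¹' O = ((Z l).basicOpen c : Set (Z l)) := by
        ext w
        constructor
        · rintro ⟨hw, hg⟩
          have h1 := (hiff l w hw).1 hg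
          rw [← hc] at h1
          exact (AmpleLib.genAt_smul_iff c _ hw (((he l).res le_top).genAt hw)).1 h1
        · intro hw
          have hwU : F l w ∈ U := (Z l).basicOpen_le c hw
          refine ⟨hwU, (hiff l w hwU).2 ?_⟩
          rw [← hc]
          exact (AmpleLib.genAt_smul_iff c _ hwU (((he l).res le_top).genAt hwU)).2 hw
      rw [this]
      exact ((Z l).basicOpen c).isOpen
    let V : S.Opens := ⟨O, hOpen⟩
    have hVU : V ≤ U := fun y hy => hy.1
    refine ⟨V, AmpleLib.res N hVU m, ⟨hxU, ?_⟩, TwistLib.genOn_of_genAt fun y hy => ?_⟩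
    · exact (AmpleLib.genAt_res hUU₀ m₀ hxU).2 (genAt_of_puSec (F k) (hUU₀ hxU) hgen₀)
    · exact (AmpleLib.genAt_res hVU m hy).2 hy.2
  choose V s hxV hs using hex
  exact AmpleLib.isInvertible_of_gens V (fun x => ⟨x, hxV x⟩) s hs

end DescAppLib
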