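import Groth.Agent.QCohDescLib.EvIso
import Groth.Agent.CubeLib.Glue
import Groth.Agent.DescAppLib.GenDesc

/-!
# Line bundles which are trivial on a covering of the base descend to the base
-/

set_option autoImplicit false
set_option linter.style.haveILetI false
set_option backward.isDefEq.respectTransparency false
set_option backward.isDefEq.respectTransparency.types false
set_option maxHeartbeats 1000000

noncomputable section

universe u

open CategoryTheory CategoryTheory.Limits AlgebraicGeometry TopologicalSpace Opposite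
open KFlatLib (pb puSec puSecLE)
open QCohDescLib (pullLE compIso)
open AmpleLib (GenOn GenAt res)

namespace DescAppLib

section Gen

variable {W : Scheme.{u}} {M N : W.Modules}

/-- Maps out of a free module of rank one agree if they agree on the generator. -/
theorem hom_ext_gen {e : Γ(M, ⊤)} (he : GenOn M e) {φ ψ : M ⟶ N} (h : φ.app ⊤ e = ψ.app ⊤ e) : φ = ψ := by
  haveI := AmpleLib.isIso_unitHom e he
  rw [← cancel_epi (QCohLib.unitHom M e), QCohLib.app_unitHom_app, QCohLib.app_unitHom_app, h]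

/-- The map out of a free module of rank one with given value at the generator. -/
def homOfGen {e : Γ(M, ⊤)} (he : GenOn M e) (n : Γ(N, ⊤)) : M ⟶ N :=
  haveI := AmpleLib.isIso_unitHom e he
  inv (QCohLib.unitHom M e) ≫ QCohLib.unitHom N n

theorem homOfGen_app {e : Γ(M, ⊤)} (he : GenOn M e) (n : Γ(N, ⊤)) : (homOfGen he n).app ⊤ e = n := by
  haveI := AmpleLib.isIso_unitHom e he
  have h1 : ∀ (P : W.Modules) (p : Γ(P, ⊤)), (QCohLib.unitHom P p).app ⊤ (1 : Γ(W, ⊤)) = p := fun P p => by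
    rw [QCohLib.unitHom_app, one_smul]
    exact congr($(P.presheaf.map_id _) p)
  have h2 : QCohLib.unitHom M e ≫ homOfGen he n = QCohLib.unitHom N n := IsIso.hom_inv_id_assoc _ _
  calc (homOfGen he n).app ⊤ e = (homOfGen he n).app ⊤ ((QCohLib.unitHom M e).app ⊤ (1 : Γ(W, ⊤))) :=
        congrArg ((homOfGen he n).app ⊤) (h1 M e).symm
    _ = (QCohLib.unitHom N n).app ⊤ (1 : Γ(W, ⊤)) :=
        congr($(congrArg (fun φ => Scheme.Modules.Hom.app φ ⊤) h2) (1 : Γ(W, ⊤)))
    _ = n := h1 N n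

theorem isIso_of_gen {e : Γ(M, ⊤)} (he : GenOn M e) (φ : M ⟶ N) (hn : GenOn N (φ.app ⊤ e)) : IsIso φ := by
  haveI := AmpleLib.isIso_unitHom e he
  haveI := AmpleLib.isIso_unitHom _ hn
  exact IsIso.of_isIso_fac_left (QCohLib.app_unitHom_app φ e)

theorem genOn_app_iso (τ : M ≅ N) {e : Γ(M, ⊤)} (he : GenOn M e) : GenOn N (τ.hom.app ⊤ e) :=
  TwistLib.genOn_of_genAt fun _ hx => (TwistLib.genAt_app_iso τ e hx).2 (he.genAt hx)

theorem one_genOn' : GenOn (Coh.structureModule W) (show Γ(Coh.structureModule W, ⊤) from (1 : Γ(W, ⊤))) :=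
  AmpleLib.one_genOn ⊤

theorem smul_left_cancel {e : Γ(M, ⊤)} (he : GenOn M e) {a b : Γ(W, ⊤)} (h : a • e = b • e) : a = b :=
  (he ⊤ le_rfl).1 (by simp only [AmpleLib.res_refl]; exact h)

end Gen

theorem genOn_pullLE {S W W' : Scheme.{u}} (M : S.Modules) (g : W' ⟶ W) {h : W ⟶ S} {h' : W' ⟶ S} (e : g ≫ h = h')
    (le : (⊤ : W'.Opens) ≤ g ⁻¹ᵁ ⊤) {x : Γ(pb h M, ⊤)} (hx : GenOn (pb h M) x) :
    GenOn (pb h' M) (pullLE M g e le x) := by
  rw [QCohDescLib.pullLE_eq_compIso]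
  exact genOn_app_iso (compIso M g e) (CubeLib.genOn_puSecLE g hx le)

theorem top_le {P Q : Scheme.{u}} (g : P ⟶ Q) : (⊤ : P.Opens) ≤ g ⁻¹ᵁ ⊤ := fun _ _ => trivial

theorem appTop_comp {P Q R : Scheme.{u}} (g : P ⟶ Q) (h : Q ⟶ R) {h' : P ⟶ R} (e : g ≫ h = h') (r : Γ(R, ⊤)) :
    g.appTop (h.appTop r) = h'.appTop r := by
  subst e; rfl

theorem appLE_top {P Q : Scheme.{u}} (g : P ⟶ Q) (le : (⊤ : P.Opens) ≤ g ⁻¹ᵁ ⊤) (r : Γ(Q, ⊤)) :
    g.appLE ⊤ ⊤ le r = g.appTop r :=
  congr($((Scheme.Hom.app_eq_appLE g (U := ⊤)).symm) r)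

variable {X S : Scheme.{u}} {ι : Type u} {Z : ι → Scheme.{u}} {f : X ⟶ S} {F : ∀ k, Z k ⟶ S} {L : X.Modules}
  (γ : ∀ k, Γ(pb (pullback.fst f (F k)) L, ⊤))

/-- The hypotheses of the descent. -/
structure Triv : Prop where
  flat : ∀ k, Flat (F k)
  gen : ∀ k, GenOn (pb (pullback.fst f (F k)) L) (γ k)
  bij : ∀ (T : Scheme.{u}) (t : T ⟶ S), Flat t → Function.Bijective (pullback.snd f t).appTop

variable {γ}

variable (f F) in
/-- The universal overlap of two members. -/
abbrev T2 (k l : ι) : Scheme.{u} := pullback (F k) (F l)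

variable (f F) in
/-- The universal overlap upstairs. -/
abbrev P2 (k l : ι) : Scheme.{u} := pullback f (pullback.fst (F k) (F l) ≫ F k)

variable (f F) in
/-- The first projection of the overlap upstairs. -/
def q₁ (k l : ι) : P2 f F k l ⟶ pullback f (F k) :=
  pullback.lift (pullback.fst _ _) (pullback.snd _ _ ≫ pullback.fst (F k) (F l))
    (by rw [Category.assoc]; exact pullback.condition)

variable (f F) in
/-- The second projection of the overlap upstairs. -/
def q₂ (k l : ι) : P2 f F k l ⟶ pullback f (F l) :=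
  pullback.lift (pullback.fst _ _) (pullback.snd _ _ ≫ pullback.snd (F k) (F l))
    (by rw [Category.assoc, ← pullback.condition (f := F k)]; exact pullback.condition)

theorem Triv.exists_uu (h : Triv γ) (k l : ι) : ∃ c : Γ(T2 F k l, ⊤), IsUnit c ∧
    pullLE L (q₁ f F k l) (pullback.lift_fst _ _ _) (top_le _) (γ k) =
      (pullback.snd f (pullback.fst (F k) (F l) ≫ F k)).appTop c •
        pullLE L (q₂ f F k l) (pullback.lift_fst _ _ _) (top_le _) (γ l) := by
  haveI := h.flat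
  have ha := genOn_pullLE L (q₁ f F k l) (pullback.lift_fst _ _ _) (top_le _) (h.gen k)
  have hb := genOn_pullLE L (q₂ f F k l) (pullback.lift_fst _ _ _) (top_le _) (h.gen l)
  obtain ⟨d, hd⟩ := (hb ⊤ le_rfl).2 (pullLE L (q₁ f F k l) (pullback.lift_fst _ _ _) (top_le _) (γ k))
  simp only [AmpleLib.res_refl] at hd
  have hbij := h.bij _ (pullback.fst (F k) (F l) ≫ F k) inferInstance
  obtain ⟨c, rfl⟩ := hbij.2 d
  refine ⟨c, ?_, hd.symm⟩
  have hu := CubeLib.isUnit_of_genOn hb (hd.symm ▸ ha)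
  obtain ⟨e, he⟩ := isUnit_iff_exists_inv.1 hu
  obtain ⟨e', rfl⟩ := hbij.2 e
  exact isUnit_iff_exists_inv.2 ⟨e', hbij.1 (by rw [map_mul, he, map_one])⟩

/-- The transition function. -/
def Triv.uu (h : Triv γ) {k l : ι} {T : Scheme.{u}} (α : T ⟶ Z k) (β : T ⟶ Z l) (e : α ≫ F k = β ≫ F l) :
    Γ(T, ⊤) :=
  (pullback.lift α β e).appTop (h.exists_uu k l).choose

theorem Triv.isUnit_uu (h : Triv γ) {k l : ι} {T : Scheme.{u}} (α : T ⟶ Z k) (β : T ⟶ Z l)
    (e : α ≫ F k = β ≫ F l) : IsUnit (h.uu α β e) :=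
  (h.exists_uu k l).choose_spec.1.map (pullback.lift α β e).appTop.hom

theorem Triv.uu_pull (h : Triv γ) {k l : ι} {T T' : Scheme.{u}} (g : T' ⟶ T) (α : T ⟶ Z k) (β : T ⟶ Z l)
    (e : α ≫ F k = β ≫ F l) (α' : T' ⟶ Z k) (β' : T' ⟶ Z l) (hα : g ≫ α = α') (hβ : g ≫ β = β')
    (e' : α' ≫ F k = β' ≫ F l) : g.appTop (h.uu α β e) = h.uu α' β' e' :=
  appTop_comp g _ (pullback.hom_ext (by rw [Category.assoc, pullback.lift_fst, pullback.lift_fst, hα])
    (by rw [Category.assoc, pullback.lift_snd, pullback.lift_snd, hβ])) _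

/-- The relation between generators. -/
theorem Triv.rel (h : Triv γ) {k l : ι} {W T : Scheme.{u}} (t : W ⟶ T) (α : T ⟶ Z k) (β : T ⟶ Z l)
    (e : α ≫ F k = β ≫ F l) (zX : W ⟶ X) (a : W ⟶ pullback f (F k)) (b : W ⟶ pullback f (F l))
    (a1 : a ≫ pullback.fst f (F k) = zX) (a2 : a ≫ pullback.snd f (F k) = t ≫ α)
    (b1 : b ≫ pullback.fst f (F l) = zX) (b2 : b ≫ pullback.snd f (F l) = t ≫ β) :
    pullLE L a a1 (top_le _) (γ k) = t.appTop (h.uu α β e) • pullLE L b b1 (top_le _) (γ l) := by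
  have hw : zX ≫ f = (t ≫ pullback.lift α β e) ≫ pullback.fst (F k) (F l) ≫ F k := by
    rw [← a1, Category.assoc, pullback.condition, ← Category.assoc, a2, Category.assoc, Category.assoc,
      pullback.lift_fst_assoc]
  let r : W ⟶ P2 f F k l := pullback.lift zX (t ≫ pullback.lift α β e) hw
  have r1 : r ≫ pullback.fst f _ = zX := pullback.lift_fst _ _ _
  have r2 : r ≫ pullback.snd f _ = t ≫ pullback.lift α β e := pullback.lift_snd _ _ _
  have ea : r ≫ q₁ f F k l = a := by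
    apply pullback.hom_ext
    · rw [Category.assoc, q₁, pullback.lift_fst, r1, a1]
    · rw [Category.assoc, q₁, pullback.lift_snd, reassoc_of% r2, pullback.lift_fst, a2]
  have eb : r ≫ q₂ f F k l = b := by
    apply pullback.hom_ext
    · rw [Category.assoc, q₂, pullback.lift_fst, r1, b1]
    · rw [Category.assoc, q₂, pullback.lift_snd, reassoc_of% r2, pullback.lift_snd, b2]
  have key := congrArg (pullLE L r r1 (top_le _)) (h.exists_uu k l).choose_spec.2
  rw [QCohDescLib.pullLE_smul, appLE_top, appTop_comp r _ r2,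
    QCohDescLib.pullLE_pullLE L (q₁ f F k l) r _ r1 (by rw [ea, a1]) (top_le _) (top_le _) (top_le _),
    QCohDescLib.pullLE_pullLE L (q₂ f F k l) r _ r1 (by rw [eb, b1]) (top_le _) (top_le _) (top_le _)] at key
  rw [Triv.uu, appTop_comp t _ rfl, QCohDescLib.pullLE_congr L ea.symm a1 (by rw [ea, a1]) (top_le _) (top_le _),
    QCohDescLib.pullLE_congr L eb.symm b1 (by rw [eb, b1]) (top_le _) (top_le _)]
  exact key

theorem Triv.uu_trans_flat (h : Triv γ) {k l m : ι} {T : Scheme.{u}} (α : T ⟶ Z k) (β : T ⟶ Z l) (δ : T ⟶ Z m)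
    (e₁ : α ≫ F k = β ≫ F l) (e₂ : β ≫ F l = δ ≫ F m) [Flat (α ≫ F k)] :
    h.uu α β e₁ * h.uu β δ e₂ = h.uu α δ (e₁.trans e₂) := by
  let pT := pullback.snd f (α ≫ F k)
  let pX := pullback.fst f (α ≫ F k)
  have hc : pX ≫ f = pT ≫ α ≫ F k := pullback.condition
  let a := pullback.lift pX (pT ≫ α) (by rw [Category.assoc]; exact hc)
  let b := pullback.lift pX (pT ≫ β) (by rw [Category.assoc, ← e₁]; exact hc)
  let c := pullback.lift pX (pT ≫ δ) (by rw [Category.assoc, ← e₂, ← e₁]; exact hc)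
  have hab := h.rel pT α β e₁ pX a b (pullback.lift_fst _ _ _) (pullback.lift_snd _ _ _) (pullback.lift_fst _ _ _)
    (pullback.lift_snd _ _ _)
  have hbc := h.rel pT β δ e₂ pX b c (pullback.lift_fst _ _ _) (pullback.lift_snd _ _ _) (pullback.lift_fst _ _ _)
    (pullback.lift_snd _ _ _)
  have hac := h.rel pT α δ (e₁.trans e₂) pX a c (pullback.lift_fst _ _ _) (pullback.lift_snd _ _ _)
    (pullback.lift_fst _ _ _) (pullback.lift_snd _ _ _)
  rw [hbc, smul_smul, hac] at hab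
  refine (h.bij T (α ≫ F k) inferInstance).1 ?_
  rw [map_mul]
  exact (smul_left_cancel (genOn_pullLE L c (pullback.lift_fst _ _ _) (top_le _) (h.gen m)) hab).symm

theorem Triv.uu_trans (h : Triv γ) {k l m : ι} {T : Scheme.{u}} (α : T ⟶ Z k) (β : T ⟶ Z l) (δ : T ⟶ Z m)
    (e₁ : α ≫ F k = β ≫ F l) (e₂ : β ≫ F l = δ ≫ F m) :
    h.uu α β e₁ * h.uu β δ e₂ = h.uu α δ (e₁.trans e₂) := by
  haveI := h.flat
  let T3 := pullback (pullback.snd (F k) (F l) ≫ F l) (F m)
  let s := pullback.fst (pullback.snd (F k) (F l) ≫ F l) (F m)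
  let g : T ⟶ T3 := pullback.lift (pullback.lift α β e₁) δ (by rw [pullback.lift_snd_assoc]; exact e₂)
  have c1 : (s ≫ pullback.fst (F k) (F l)) ≫ F k = (s ≫ pullback.snd (F k) (F l)) ≫ F l := by
    rw [Category.assoc, Category.assoc, pullback.condition]
  have c2 : (s ≫ pullback.snd (F k) (F l)) ≫ F l = pullback.snd (pullback.snd (F k) (F l) ≫ F l) (F m) ≫ F m := by
    rw [Category.assoc]; exact pullback.condition
  haveI : Flat ((s ≫ pullback.fst (F k) (F l)) ≫ F k) := by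
    rw [c1, Category.assoc]; infer_instance
  have key := congrArg g.appTop (h.uu_trans_flat _ _ _ c1 c2)
  rw [map_mul, h.uu_pull g _ _ c1 α β (by simp [g, s]) (by simp [g, s]) e₁,
    h.uu_pull g _ _ c2 β δ (by simp [g, s]) (by simp [g, s]) e₂,
    h.uu_pull g _ _ (c1.trans c2) α δ (by simp [g, s]) (by simp [g, s]) (e₁.trans e₂)] at key
  exact key

theorem Triv.uu_self (h : Triv γ) {k : ι} {T : Scheme.{u}} (α : T ⟶ Z k) : h.uu α α rfl = 1 := by
  have h1 := h.uu_trans α α α rfl rfl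
  exact (h.isUnit_uu α α rfl).mul_eq_left.1 h1

variable (F) in
/-- The generator of the pullback of the structure sheaf. -/
def egen {k : ι} {Y : Scheme.{u}} (a : Y ⟶ Z k) : Γ(pb a (Coh.structureModule (Z k)), ⊤) :=
  puSecLE a (Coh.structureModule (Z k)) (top_le a) (show Γ(Coh.structureModule (Z k), ⊤) from (1 : Γ(Z k, ⊤)))

theorem genOn_egen {k : ι} {Y : Scheme.{u}} (a : Y ⟶ Z k) : GenOn (pb a (Coh.structureModule (Z k))) (egen a) :=
  CubeLib.genOn_puSecLE a one_genOn' (top_le a)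

/-- The gluing maps. -/
def Triv.glue (h : Triv γ) {k l : ι} {Y : Scheme.{u}} (a : Y ⟶ Z k) (b : Y ⟶ Z l) (e : a ≫ F k = b ≫ F l) :
    pb a (Coh.structureModule (Z k)) ⟶ pb b (Coh.structureModule (Z l)) :=
  homOfGen (genOn_egen a) (h.uu a b e • egen b)

theorem Triv.glue_app (h : Triv γ) {k l : ι} {Y : Scheme.{u}} (a : Y ⟶ Z k) (b : Y ⟶ Z l) (e : a ≫ F k = b ≫ F l) :
    (h.glue a b e).app ⊤ (egen a) = h.uu a b e • egen b :=
  homOfGen_app _ _

theorem compIso_egen {k : ι} {Y Y' : Scheme.{u}} (g : Y' ⟶ Y) (a : Y ⟶ Z k) {a' : Y' ⟶ Z k} (ha : g ≫ a = a') :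
    (compIso (Coh.structureModule (Z k)) g ha).hom.app ⊤
      (puSecLE g (pb a (Coh.structureModule (Z k))) (top_le g) (egen a)) = egen a' := by
  rw [← QCohDescLib.pullLE_eq_compIso]
  exact QCohDescLib.pullLE_puSecLE _ g ha (top_le a) (top_le g) (top_le a') _

theorem Triv.glue_pull (h : Triv γ) {k l : ι} {Y Y' : Scheme.{u}} (g : Y' ⟶ Y) (a : Y ⟶ Z k) (b : Y ⟶ Z l)
    (e : a ≫ F k = b ≫ F l) (a' : Y' ⟶ Z k) (b' : Y' ⟶ Z l) (ha : g ≫ a = a') (hb : g ≫ b = b')
    (e' : a' ≫ F k = b' ≫ F l) :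
    (compIso _ g ha).inv ≫ (Scheme.Modules.pullback g).map (h.glue a b e) ≫ (compIso _ g hb).hom =
      h.glue a' b' e' := by
  refine hom_ext_gen (genOn_egen a') ?_
  rw [h.glue_app]
  show (compIso _ g hb).hom.app ⊤ (((Scheme.Modules.pullback g).map (h.glue a b e)).app ⊤
    ((compIso _ g ha).inv.app ⊤ (egen a'))) = _
  have hinv : (compIso (Coh.structureModule (Z k)) g ha).inv.app ⊤ (egen a') =
      puSecLE g (pb a (Coh.structureModule (Z k))) (top_le g) (egen a) := by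
    rw [← compIso_egen g a ha]
    exact congr($(congrArg (fun φ => Scheme.Modules.Hom.app φ ⊤) (compIso _ g ha).hom_inv_id) _)
  rw [hinv, CohCmpLib.puSecLE_natural, h.glue_app, KFlatLib.puSecLE_smul, QCohLib.app_smul, compIso_egen g b hb,
    appLE_top, h.uu_pull g a b e a' b' ha hb e']

/-- The descent datum. -/
def Triv.datum (h : Triv γ) : Desc.modPF.{u}.DescentData F where
  obj k := Coh.structureModule (Z k)
  hom Y q k l a b ha hb := h.glue a b (ha.trans hb.symm)
  pullHom_hom Y' Y g q q' hq k l a b ha hb a' b' ha' hb' := by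
    simp only [Pseudofunctor.LocallyDiscreteOpToCat.pullHom]
    rw [QCohDescLib.mapComp'_hom_app a g a' ha', QCohDescLib.mapComp'_inv_app b g b' hb']
    exact h.glue_pull g a b _ a' b' ha' hb' _
  hom_self Y q k a ha := hom_ext_gen (genOn_egen a) (by
    rw [h.glue_app, h.uu_self, one_smul]; rfl)
  hom_comp Y q k l m a b c ha hb hc := hom_ext_gen (genOn_egen a) (by
    show (h.glue b c _).app ⊤ ((h.glue a b _).app ⊤ (egen a)) = _
    rw [h.glue_app, QCohLib.app_smul, h.glue_app, smul_smul, h.uu_trans]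
    exact (h.glue_app a c _).symm)

end DescAppLib
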