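import Groth.Agent.MiscFlat6.CounitTwist
import Groth.Agent.RpushLib.BCMap
import Groth.Agent.QCohDescLib.Hom

/-!
# Global generation descends along faithfully flat extensions of the base ring
-/

set_option autoImplicit false
set_option linter.style.haveILetI false
set_option maxHeartbeats 800000

noncomputable section

universe u

open CategoryTheory CategoryTheory.Limits AlgebraicGeometry TopologicalSpace Opposite TensorProduct
open KFlatLib (pb puSec puSecLE)

namespace DescAppLib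

/-- Global sections of a flat base change are spanned by the pullbacks of global sections. -/
theorem span_puSec_eq_top {A B : Type u} [CommRing A] [CommRing B] [Algebra A B] [Module.Flat A B]
    {X X' : Scheme.{u}} {f : X ⟶ Spec (CommRingCat.of A)} {f' : X' ⟶ Spec (CommRingCat.of B)} {g' : X' ⟶ X}
    (H : IsPullback g' f' f (Spec.map (CommRingCat.ofHom (algebraMap A B))))
    [QuasiCompact f] [QuasiSeparated f] (F : X.Modules) [Coh.IsQCoh F] :
    Submodule.span Γ(X', ⊤)
      (Set.range fun s : Γ(F, f ⁻¹ᵁ ⊤) => puSecLE g' F (show (⊤ : X'.Opens) ≤ g' ⁻¹ᵁ (f ⁻¹ᵁ ⊤) from fun _ _ => trivial) s) = (⊤ : Submodule Γ(X', ⊤) Γ(pb g' F, ⊤)) := by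
  haveI : Flat (Spec.map (CommRingCat.ofHom (algebraMap A B))) := by
    rw [HasRingHomProperty.Spec_iff (P := @Flat)]
    exact RingHom.flat_algebraMap_iff.mpr ‹_›
  have hg : (⊤ : (Spec (CommRingCat.of B)).Opens) ≤ Spec.map (CommRingCat.ofHom (algebraMap A B)) ⁻¹ᵁ ⊤ := fun _ _ => trivial
  letI := ((Spec.map (CommRingCat.ofHom (algebraMap A B))).appLE ⊤ ⊤ hg).hom.toAlgebra
  have hb := RpushLib.bijective_bc_zero H F (isAffineOpen_top _) (isAffineOpen_top _) hg
  have key : ∀ (U : X'.Opens) (_ : U = g' ⁻¹ᵁ (f ⁻¹ᵁ ⊤) ⊓ f' ⁻¹ᵁ ⊤) (h : U ≤ g' ⁻¹ᵁ (f ⁻¹ᵁ ⊤)),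
      Submodule.span Γ(X', U) (Set.range fun s : Γ(F, f ⁻¹ᵁ ⊤) => puSecLE g' F h s) = (⊤ : Submodule Γ(X', U) Γ(pb g' F, U)) := by
    rintro U rfl h
    refine Submodule.eq_top_iff'.2 fun y => ?_
    obtain ⟨z, rfl⟩ := hb.2 y
    induction z using TensorProduct.induction_on with
    | zero =>
      rw [map_zero]
      exact zero_mem _
    | tmul b s =>
      rw [RpushLib.extSL_tmul]
      exact @Submodule.smul_mem Γ(X', g' ⁻¹ᵁ (f ⁻¹ᵁ ⊤) ⊓ f' ⁻¹ᵁ ⊤) Γ(pb g' F, g' ⁻¹ᵁ (f ⁻¹ᵁ ⊤) ⊓ f' ⁻¹ᵁ ⊤) _ _ _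
        (Submodule.span _ _) _ (f'.appLE ⊤ _ inf_le_right b) (Submodule.subset_span ⟨s, rfl⟩)
    | add a b ha hb =>
      rw [map_add]
      exact add_mem ha hb
  exact key ⊤ (top_le_iff.1 (fun _ _ => ⟨trivial, trivial⟩)).symm _

theorem gg_iff (A A' : Type u) [CommRing A] [CommRing A'] [Algebra A A']
    [Module.FaithfullyFlat A A'] {X X' : Scheme.{u}} {f : X ⟶ Spec (CommRingCat.of A)}
    {f' : X' ⟶ Spec (CommRingCat.of A')} {g : X' ⟶ X}
    (H : IsPullback g f' f (Spec.map (CommRingCat.ofHom (algebraMap A A'))))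
    [QuasiCompact f] [QuasiSeparated f] (F : X.Modules) [Coh.IsQCoh F] :
    Curv2.IsGloballyGenerated F ↔ Curv2.IsGloballyGenerated (pb g F) := by
  refine ⟨fun h => MiscFlat6.isGloballyGenerated_of_cancel _ fun N q hq => ?_,
    fun h => MiscFlat6.isGloballyGenerated_of_cancel _ fun N q hq => ?_⟩
  · refine ((Scheme.Modules.pullbackPushforwardAdjunction g).homEquiv _ _).injective ?_
    refine (MiscFlat6.cancel_of_isGloballyGenerated h _ fun u => ?_).trans ?_
    · rw [Adjunction.homEquiv_unit]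
      exact hq _
    · rw [Adjunction.homEquiv_unit, Functor.map_zero, comp_zero]
  · haveI : Flat (Spec.map (CommRingCat.ofHom (algebraMap A A'))) := by
      rw [HasRingHomProperty.Spec_iff (P := @Flat)]
      exact RingHom.flat_algebraMap_iff.mpr inferInstance
    haveI : Surjective (Spec.map (CommRingCat.ofHom (algebraMap A A'))) :=
      ⟨PrimeSpectrum.comap_surjective_of_faithfullyFlat⟩
    haveI : Flat g := MorphismProperty.of_isPullback (P := @Flat) H.flip inferInstance
    haveI : Surjective g := MorphismProperty.of_isPullback (P := @Surjective) H.flip inferInstance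
    have h0 : (Scheme.Modules.pullback g).map q = 0 := by
      refine MiscFlat6.cancel_of_isGloballyGenerated h _ fun y => ?_
      have hy : y ∈ Submodule.span Γ(X', ⊤) (Set.range fun s : Γ(F, f ⁻¹ᵁ ⊤) =>
          puSecLE g F (show (⊤ : X'.Opens) ≤ g ⁻¹ᵁ (f ⁻¹ᵁ ⊤) from fun _ _ => trivial) s) := by
        rw [span_puSec_eq_top H F]; trivial
      induction hy using Submodule.span_induction with
      | mem y hy =>
        obtain ⟨s, rfl⟩ := hy
        refine (CohCmpLib.puSecLE_natural _ _ _ _).trans ?_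
        rw [show q.app (f ⁻¹ᵁ ⊤) s = 0 from hq s, map_zero]
      | zero => exact map_zero _
      | add a b _ _ ha hb => rw [map_add, ha, hb, add_zero]
      | smul c a _ ha => rw [QCohLib.app_smul, ha, smul_zero]
    exact QCohDescLib.eq_of_pullback_map_eq (fun _ : PUnit.{u + 1} => g) (fun s => ⟨PUnit.unit, g.surjective s⟩) q 0
      fun _ => h0.trans (Functor.map_zero _ _ _).symm

end DescAppLib
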