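import Groth.Agent.DescAppLib.LineDesc
import Groth.Agent.CubeConsLib.IsoCls
import Groth.Agent.RpushLib.Finite
import Groth.Agent.H0Lib.Descent

/-!
# Line bundles from the base
-/

set_option autoImplicit false
set_option linter.style.haveILetI false
set_option backward.isDefEq.respectTransparency false
set_option backward.isDefEq.respectTransparency.types false
set_option maxHeartbeats 1000000

noncomputable section

universe u

open CategoryTheory CategoryTheory.Limits AlgebraicGeometry TopologicalSpace Opposite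
open KFlatLib (pb puSec puSecLE)
open QCohDescLib (pullLE compIso)
open AmpleLib (GenOn GenAt res)

namespace DescAppLib

variable {X S : Scheme.{u}}

/-- A line bundle on the base with trivial pullback along a map with `O = f_*O` is trivial. -/
theorem nonempty_iso_of_pullback_trivial (f : X ⟶ S) (hf : ∀ U : S.Opens, Function.Bijective (f.app U))
    (L : S.Modules) (hL : PicF.IsInvertible L) (htriv : Nonempty (pb f L ≅ Coh.structureModule X)) :
    Nonempty (L ≅ Coh.structureModule S) := by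
  obtain ⟨γ, hγ⟩ := CubeLib.exists_genOn_top htriv
  choose U e hxU he using fun x => TwistLib.exists_genOn hL x
  have hsm : ∀ (V : S.Opens) (r : Γ(S, V)) (m : Γ(L, V)), puSec f (r • m) = f.app V r • puSec f m :=
    fun V r m => KFlatLib.puSec_smul f r m
  have hinj : ∀ (V : S.Opens) (x : S), V ≤ U x → ∀ s t : Γ(L, V), puSec f s = puSec f t → s = t := by
    intro V x hV s t hst
    have hg : GenOn L (res L hV (e x)) := (he x).res hV
    obtain ⟨a, rfl⟩ := (hg V le_rfl).2 s
    obtain ⟨b, rfl⟩ := (hg V le_rfl).2 t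
    simp only [AmpleLib.res_refl] at hst ⊢
    rw [hsm, hsm] at hst
    have hgp : GenOn (pb f L) (W := f ⁻¹ᵁ V) (puSec f (res L hV (e x))) := by
      rw [← QCohDescLib.puSecLE_rfl L (res L hV (e x))]
      exact CubeLib.genOn_puSecLE f hg le_rfl
    have := (hgp _ le_rfl).1 (show f.app V a • res (pb f L) le_rfl (puSec f (res L hV (e x))) =
      f.app V b • res (pb f L) le_rfl (puSec f (res L hV (e x))) by simpa only [AmpleLib.res_refl] using hst)
    rw [(hf V).1 this]
  have hex : ∀ x, ∃ e' : Γ(L, U x), GenOn L e' ∧ puSec f e' = res (pb f L) le_top γ := by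
    intro x
    have hgp : GenOn (pb f L) (W := f ⁻¹ᵁ U x) (puSec f (e x)) := by
      rw [← QCohDescLib.puSecLE_rfl L (e x)]
      exact CubeLib.genOn_puSecLE f (he x) le_rfl
    obtain ⟨d, hd⟩ := (hgp _ le_rfl).2 (res (pb f L) le_top γ)
    simp only [AmpleLib.res_refl] at hd
    have hdu : IsUnit d := CubeLib.isUnit_of_genOn hgp (by rw [hd]; exact hγ.res le_top)
    obtain ⟨c, rfl⟩ := (hf (U x)).2 d
    obtain ⟨c', hc'⟩ := isUnit_iff_exists_inv.1 hdu
    obtain ⟨c'', rfl⟩ := (hf (U x)).2 c'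
    have hcu : IsUnit c := isUnit_iff_exists_inv.2 ⟨c'', (hf (U x)).1 (by rw [map_mul, hc', map_one])⟩
    exact ⟨c • e x, CubeLib.genOn_unit_smul (he x) hcu, by rw [hsm, hd]⟩
  choose e' he' hpu using hex
  obtain ⟨s, hs, -⟩ := CubeLib.trivial_of_compatible U (fun x => ⟨x, hxU x⟩) e' he' fun x y =>
    hinj _ x inf_le_left _ _ (by
      rw [← QCohDescLib.puSecLE_rfl L (res L _ (e' x)), ← QCohDescLib.puSecLE_rfl L (res L _ (e' y)),
        CubeLib.puSecLE_res, CubeLib.puSecLE_res,
        ← CubeLib.res_puSecLE f L (le_refl (f ⁻¹ᵁ U x)) (f.preimage_mono inf_le_left),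
        ← CubeLib.res_puSecLE f L (le_refl (f ⁻¹ᵁ U y)) (f.preimage_mono inf_le_right),
        QCohDescLib.puSecLE_rfl, QCohDescLib.puSecLE_rfl, hpu, hpu, AmpleLib.res_res, AmpleLib.res_res])
  exact CubeLib.trivial_of_genOn_top hs

theorem genOn_inv_puSec {P Q : Scheme.{u}} (q : P ⟶ Q) {M : P.Modules} {N : Q.Modules} (e : M ≅ pb q N) {U : Q.Opens}
    {σ : Γ(N, U)} (hσ : GenOn N σ) : GenOn M (e.inv.app (q ⁻¹ᵁ U) (puSec q σ)) := by
  refine TwistLib.genOn_of_genAt fun x hx => ?_
  exact (TwistLib.genAt_app_iso e.symm (puSec q σ) hx).2 (TwistLib.GenAt.puSec q (hσ.genAt hx))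

/-- Descent of a line bundle which comes from the base after a covering. -/
theorem exists_descend_family (f : X ⟶ S) {κ : Type u} {S' : κ → Scheme.{u}} (g : ∀ a, S' a ⟶ S)
    (hg : Presieve.ofArrows S' g ∈ Scheme.fpqcPrecoverage S)
    (hbij : ∀ (T : Scheme.{u}) (t : T ⟶ S), Flat t → Function.Bijective (pullback.snd f t).appTop)
    (L : X.Modules) {P : κ → Scheme.{u}} (mX : ∀ a, P a ⟶ X) (q : ∀ a, P a ⟶ S' a)
    (H : ∀ a, IsPullback (mX a) (q a) f (g a)) (N' : ∀ a, (S' a).Modules) (hN' : ∀ a, PicF.IsInvertible (N' a))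
    (e : ∀ a, pb (mX a) L ≅ pb (q a) (N' a)) :
    ∃ N : S.Modules, PicF.IsInvertible N ∧ Nonempty (pb f N ≅ L) := by
  choose U σ hxU hσ using fun a x => TwistLib.exists_genOn (hN' a) x
  let Z : (Σ a : κ, (S' a : Type u)) → Scheme.{u} := fun k => U k.1 k.2
  let F : ∀ k, Z k ⟶ S := fun k => (U k.1 k.2).ι ≫ g k.1
  have hF : Presieve.ofArrows Z F ∈ Scheme.fpqcPrecoverage S := by
    refine Precoverage.comp_mem_coverings g hg (fun a (x : S' a) => (U a x).ι) fun a => ?_
    refine Scheme.zariskiPrecoverage_le_fpqcPrecoverage _ ?_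
    exact (Scheme.ofArrows_mem_precoverage_iff _).2 ⟨fun y => ⟨y, ⟨y, hxU a y⟩, rfl⟩, fun _ => inferInstance⟩
  have hex : ∀ k, ∃ m : pullback f (F k) ⟶ P k.1, m ≫ mX k.1 = pullback.fst f (F k) ∧
      m ≫ q k.1 = pullback.snd f (F k) ≫ (U k.1 k.2).ι := fun k =>
    ⟨(H k.1).lift (pullback.fst _ _) (pullback.snd _ _ ≫ (U k.1 k.2).ι) (pullback.condition.trans (Category.assoc _ _ _).symm),
      (H k.1).lift_fst _ _ _, (H k.1).lift_snd _ _ _⟩
  choose m hm hmq using hex
  have hle : ∀ k, (⊤ : (pullback f (F k)).Opens) ≤ m k ⁻¹ᵁ (q k.1 ⁻¹ᵁ U k.1 k.2) := fun k y _ => by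
    show (m k ≫ q k.1) y ∈ U k.1 k.2
    rw [hmq k]
    exact (pullback.snd f (F k) y).2
  have hτex : ∀ k : (Σ a : κ, (S' a : Type u)), ∃ t : Γ(pb (mX k.1) L, q k.1 ⁻¹ᵁ U k.1 k.2), GenOn (pb (mX k.1) L) t :=
    fun k => ⟨_, genOn_inv_puSec (q k.1) (e k.1) (hσ k.1 k.2)⟩
  choose τ hτ using hτex
  let γ : ∀ k, Γ(pb (pullback.fst f (F k)) L, ⊤) := fun k => pullLE L (m k) (hm k) (hle k) (τ k)
  have h : Triv γ :=
    { flat := fun k => DescLib.ofArrows_flat hF k
      gen := fun k => by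
        show GenOn _ (pullLE L (m k) (hm k) (hle k) (τ k))
        rw [QCohDescLib.pullLE_eq_compIso]
        exact genOn_app_iso (compIso L (m k) (hm k)) (CubeLib.genOn_puSecLE (m k) (hτ k) (hle k))
      bij := hbij }
  exact h.exists_descend hF

/-- Descent of a line bundle which comes from the base after a covering by one map. -/
theorem exists_descend_cover (f : X ⟶ S) {S' : Scheme.{u}} (g : S' ⟶ S)
    (hg : Presieve.ofArrows (fun _ : PUnit.{u + 1} => S') (fun _ => g) ∈ Scheme.fpqcPrecoverage S)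
    (hbij : ∀ (T : Scheme.{u}) (t : T ⟶ S), Flat t → Function.Bijective (pullback.snd f t).appTop)
    (L : X.Modules) {N' : S'.Modules} (hN' : PicF.IsInvertible N')
    (e : pb (pullback.fst f g) L ≅ pb (pullback.snd f g) N') :
    ∃ N : S.Modules, PicF.IsInvertible N ∧ Nonempty (pb f N ≅ L) :=
  exists_descend_family f (fun _ => g) hg hbij L (fun _ => pullback.fst f g) (fun _ => pullback.snd f g)
    (fun _ => IsPullback.of_hasPullback f g) (fun _ => N') (fun _ => hN') (fun _ => e)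

/-- `O = f_*O` is stable under flat base change, for quasi-compact quasi-separated maps. -/
theorem isIso_unitToPush_snd (f : X ⟶ S) [QuasiCompact f] [QuasiSeparated f]
    (hf : ∀ U : S.Opens, Function.Bijective (f.app U)) {T : Scheme.{u}} (t : T ⟶ S) [Flat t] :
    IsIso (ClSub.unitToPush (pullback.snd f t)) := by
  let p := pullback.snd f t
  show IsIso (ClSub.unitToPush p)
  refine RpushLib.isIso_of_bijective_basis _
    (B := {V : T.Opens | IsAffineOpen V ∧ ∃ W : S.Opens, IsAffineOpen W ∧ V ≤ t ⁻¹ᵁ W}) ?_ ?_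
  · refine Opens.isBasis_iff_nbhd.2 fun {O x} hx => ?_
    obtain ⟨W, hW, hxW, -⟩ := exists_isAffineOpen_mem_and_subset (U := (⊤ : S.Opens)) (x := t x) trivial
    obtain ⟨V, hV, hxV, hVO⟩ := exists_isAffineOpen_mem_and_subset (U := O ⊓ t ⁻¹ᵁ W) (x := x) ⟨hx, hxW⟩
    exact ⟨V, ⟨hV, W, hW, fun y hy => (hVO hy).2⟩, hxV, fun y hy => (hVO hy).1⟩
  · rintro V ⟨hV, W, hW, hVW⟩
    have hUY : p ⁻¹ᵁ V = pullback.fst f t ⁻¹ᵁ (f ⁻¹ᵁ W) ⊓ p ⁻¹ᵁ V :=
      (RpushLib.inf_preimage_sq pullback.condition hVW).symm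
    have h := (isIso_pushoutSection_iff (IsPullback.of_hasPullback f t) (US := W) (UT := V) (UX := f ⁻¹ᵁ W)
      (UY := p ⁻¹ᵁ V) hVW le_rfl hUY).mp
      (isIso_pushoutSection_of_isQuasiSeparated_of_flat_right (IsPullback.of_hasPullback f t) hVW le_rfl hUY hW hV
        (QuasiCompact.isCompact_preimage (f := f) W W.isOpen hW.isCompact)
        (f.isQuasiSeparated_preimage hW.isQuasiSeparated))
    rw [← Scheme.Hom.app_eq_appLE, ← Scheme.Hom.app_eq_appLE] at h
    haveI : IsIso (f.app W) := (ConcreteCategory.isIso_iff_bijective _).2 (hf W)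
    haveI : IsIso (p.app V) := h.isIso_inr_of_isIso
    exact ConcreteCategory.bijective_of_isIso (p.app V)

/-- Global functions are unchanged by a flat base change. -/
theorem bijective_snd_appTop (f : X ⟶ S) [QuasiCompact f] [QuasiSeparated f]
    (hf : ∀ U : S.Opens, Function.Bijective (f.app U)) {T : Scheme.{u}} (t : T ⟶ S) [Flat t] :
    Function.Bijective (pullback.snd f t).appTop := by
  haveI := isIso_unitToPush_snd f hf t
  exact ConcreteCategory.bijective_of_isIso ((ClSub.unitToPush (pullback.snd f t)).app ⊤)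

end DescAppLib
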