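import Groth.Agent.DescAppLib.LineData

/-!
# Descent of line bundles from a covering of the base
-/

set_option autoImplicit false
set_option linter.style.haveILetI false
set_option backward.isDefEq.respectTransparency false
set_option backward.isDefEq.respectTransparency.types false
set_option maxHeartbeats 1000000

noncomputable section

universe u

open CategoryTheory CategoryTheory.Limits AlgebraicGeometry TopologicalSpace Opposite
open KFlatLib (pb puSec puSecLE)
open QCohDescLib (pullLE compIso)
open AmpleLib (GenOn GenAt res)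

namespace DescAppLib

variable {X S : Scheme.{u}} {ι : Type u} {Z : ι → Scheme.{u}} {f : X ⟶ S} {F : ∀ k, Z k ⟶ S} {L : X.Modules}
  {γ : ∀ k, Γ(pb (pullback.fst f (F k)) L, ⊤)}

/-- **Descent of a line bundle which is trivial on an fpqc covering of the base.** -/
theorem Triv.exists_descend (h : Triv γ) (hF : Presieve.ofArrows Z F ∈ Scheme.fpqcPrecoverage S) :
    ∃ N : S.Modules, PicF.IsInvertible N ∧ Nonempty (pb f N ≅ L) := by
  haveI := h.flat
  haveI hq : ∀ k, Coh.IsQCoh (QCohDescLib.dObj h.datum k) := fun k =>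
    QCohLib.isQCoh_unit (X := Z k)
  let N := QCohDescLib.dMod h.datum
  haveI : ∀ k, IsIso (QCohDescLib.evI h.datum k) := fun k => QCohDescLib.isIso_evI h.datum hF k
  let θ : ∀ k, pb (F k) N ≅ Coh.structureModule (Z k) := fun k => @asIso _ _ _ _ (QCohDescLib.evI h.datum k) (QCohDescLib.isIso_evI h.datum hF k)
  let e : ∀ k, Γ(pb (F k) N, ⊤) := fun k => (θ k).inv.app ⊤ (show Γ(Coh.structureModule (Z k), ⊤) from (1 : Γ(Z k, ⊤)))
  have he : ∀ k, GenOn (pb (F k) N) (e k) := fun k => genOn_app_iso (θ k).symm one_genOn'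
  have hrel : ∀ (k l : ι) (Y : Scheme.{u}) (q : Y ⟶ S) (a : Y ⟶ Z k) (b : Y ⟶ Z l) (ha : a ≫ F k = q)
      (hb : b ≫ F l = q), pullLE N a ha (top_le a) (e k) =
        h.uu a b (ha.trans hb.symm) • pullLE N b hb (top_le b) (e l) := by
    intro k l Y q a b ha hb
    have key := congr($(congrArg (fun φ => Scheme.Modules.Hom.app φ ⊤) (QCohDescLib.evI_comm h.datum a b q ha hb))
      (puSecLE a (pb (F k) N) (top_le a) (e k)))
    have h1 : ∀ m, (θ m).hom.app ⊤ (e m) =
        (show Γ(Coh.structureModule (Z m), ⊤) from (1 : Γ(Z m, ⊤))) := fun m =>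
      congr($(congrArg (fun φ => Scheme.Modules.Hom.app φ ⊤) (θ m).inv_hom_id) _)
    rw [QCohDescLib.dHom_eq h.datum a b q ha hb] at key
    have hL : ((Scheme.Modules.pullback a).map (QCohDescLib.evI h.datum k)).app ⊤ (puSecLE a (pb (F k) N) (top_le a) (e k)) =
        egen a :=
      (CohCmpLib.puSecLE_natural _ _ _ _).trans (congrArg (puSecLE a _ (top_le a)) (h1 k))
    have hR : ((Scheme.Modules.pullback b).map (QCohDescLib.evI h.datum l)).app ⊤ (puSecLE b (pb (F l) N) (top_le b) (e l)) =
        egen b :=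
      (CohCmpLib.puSecLE_natural _ _ _ _).trans (congrArg (puSecLE b _ (top_le b)) (h1 l))
    have key' : h.uu a b (ha.trans hb.symm) • egen b =
        ((Scheme.Modules.pullback b).map (QCohDescLib.evI h.datum l)).app ⊤
          ((compIso N b hb).inv.app ⊤ ((compIso N a ha).hom.app ⊤ (puSecLE a (pb (F k) N) (top_le a) (e k)))) := by
      refine Eq.trans ?_ key
      exact ((congrArg ((h.glue a b (ha.trans hb.symm)).app ⊤) hL).trans (h.glue_app a b _)).symm
    rw [← hR, ← QCohLib.app_smul] at key'
    haveI : IsIso ((Scheme.Modules.pullback b).map (QCohDescLib.evI h.datum l)) := inferInstance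
    have key2 := (ConcreteCategory.bijective_of_isIso
      (((Scheme.Modules.pullback b).map (QCohDescLib.evI h.datum l)).app ⊤)).1 key'
    have key3 := congrArg ((compIso N b hb).hom.app ⊤) key2
    rw [QCohLib.app_smul, ← QCohDescLib.pullLE_eq_compIso] at key3
    refine Eq.trans ?_ key3.symm
    rw [QCohDescLib.pullLE_eq_compIso]
    exact (congr($(congrArg (fun φ => Scheme.Modules.Hom.app φ ⊤) (compIso N b hb).inv_hom_id) _)).symm
  have hN : PicF.IsInvertible N := isInvertible_of_family F hF N e he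
  haveI := QCohDescLib.isQCoh_dMod h.datum hF
  haveI : Coh.IsQCoh (pb f N) := KFlatLib.isQCoh_pullback f N
  -- the family upstairs
  have hP : Presieve.ofArrows (fun k => pullback f (F k)) (fun k => pullback.fst f (F k)) ∈ Scheme.fpqcPrecoverage X :=
    Precoverage.mem_coverings_of_isPullback F hF f _ (fun k => pullback.snd f (F k))
      fun k => IsPullback.of_hasPullback f (F k)
  haveI : ∀ k, Flat (pullback.fst f (F k)) := fun k => inferInstance
  let ε : ∀ k, Γ(pb (pullback.fst f (F k) ≫ f) N, ⊤) := fun k =>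
    pullLE N (pullback.snd f (F k)) pullback.condition.symm (top_le _) (e k)
  let δ : ∀ k, Γ(pb (pullback.fst f (F k)) (pb f N), ⊤) := fun k =>
    (compIso N (pullback.fst f (F k)) (h := f) rfl).inv.app ⊤ (ε k)
  have hδc : ∀ k, (compIso N (pullback.fst f (F k)) (h := f) rfl).hom.app ⊤ (δ k) = ε k := fun k =>
    congr($(congrArg (fun φ => Scheme.Modules.Hom.app φ ⊤) (compIso N (pullback.fst f (F k)) (h := f) rfl).inv_hom_id) _)
  have hδ : ∀ k, GenOn (pb (pullback.fst f (F k)) (pb f N)) (δ k) := fun k =>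
    genOn_app_iso (compIso N (pullback.fst f (F k)) (h := f) rfl).symm
      (genOn_pullLE N _ _ (top_le _) (he k))
  let φ : ∀ k, pb (pullback.fst f (F k)) L ⟶ pb (pullback.fst f (F k)) (pb f N) := fun k => homOfGen (h.gen k) (δ k)
  obtain ⟨ψ, hψ⟩ := QCohDescLib.exists_hom_descend (fun k => pullback.fst f (F k)) hP L (pb f N) φ
    fun k l Y a b q ea eb => by
      refine hom_ext_gen (CubeLib.genOn_puSecLE a (h.gen k) (top_le a)) ?_
      have hc : (a ≫ pullback.snd f (F k)) ≫ F k = (b ≫ pullback.snd f (F l)) ≫ F l := by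
        rw [Category.assoc, Category.assoc, ← pullback.condition, ← pullback.condition, reassoc_of% ea,
          reassoc_of% eb]
      have hu := h.rel (𝟙 Y) _ _ hc q a b ea (Category.id_comp _).symm eb (Category.id_comp _).symm
      rw [show (𝟙 Y : Y ⟶ Y).appTop (h.uu _ _ hc) = h.uu _ _ hc from rfl] at hu
      show (compIso (pb f N) b eb).inv.app ⊤ ((compIso (pb f N) a ea).hom.app ⊤
          (((Scheme.Modules.pullback a).map (φ k)).app ⊤ (puSecLE a _ (top_le a) (γ k)))) =
        ((Scheme.Modules.pullback b).map (φ l)).app ⊤ ((compIso L b eb).inv.app ⊤ ((compIso L a ea).hom.app ⊤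
          (puSecLE a _ (top_le a) (γ k))))
      rw [CohCmpLib.puSecLE_natural, ← QCohDescLib.pullLE_eq_compIso L a ea, hu, QCohLib.app_smul, QCohLib.app_smul,
        show (compIso L b eb).inv.app ⊤ (pullLE L b eb (top_le b) (γ l)) = puSecLE b _ (top_le b) (γ l) from by
          rw [QCohDescLib.pullLE_eq_compIso]
          exact congr($(congrArg (fun φ => Scheme.Modules.Hom.app φ ⊤) (compIso L b eb).hom_inv_id) _),
        CohCmpLib.puSecLE_natural, homOfGen_app, homOfGen_app]
      refine (ConcreteCategory.bijective_of_isIso ((compIso (pb f N) b eb).hom.app ⊤)).1 ?_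
      refine (congr($(congrArg (fun φ => Scheme.Modules.Hom.app φ ⊤) (compIso (pb f N) b eb).inv_hom_id) _)).trans ?_
      rw [QCohLib.app_smul, ← QCohDescLib.pullLE_eq_compIso, ← QCohDescLib.pullLE_eq_compIso]
      refine (ConcreteCategory.bijective_of_isIso ((compIso N q (h := f) rfl).hom.app ⊤)).1 ?_
      show (compIso N q (h := f) rfl).hom.app ⊤ (pullLE (pb f N) a ea _ (δ k)) = _
      rw [QCohLib.app_smul, QCohDescLib.compIso_pullLE N f a ea (by rw [reassoc_of% ea]),
        QCohDescLib.compIso_pullLE N f b eb (by rw [reassoc_of% eb]), hδc, hδc]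
      have sa : (a ≫ pullback.snd f (F k)) ≫ F k = q ≫ f := by
        rw [Category.assoc, ← pullback.condition, reassoc_of% ea]
      have sb : (b ≫ pullback.snd f (F l)) ≫ F l = q ≫ f := by
        rw [Category.assoc, ← pullback.condition, reassoc_of% eb]
      rw [QCohDescLib.pullLE_pullLE N (pullback.snd f (F k)) a _ _ sa (top_le _) (top_le _) (top_le _),
        QCohDescLib.pullLE_pullLE N (pullback.snd f (F l)) b _ _ sb (top_le _) (top_le _) (top_le _)]
      exact hrel k l Y (q ≫ f) _ _ sa sb
  haveI : IsIso ψ := QCohDescLib.isIso_of_pullback_family (fun k => pullback.fst f (F k))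
    (fun x => by obtain ⟨k, z, hz⟩ := DescLib.ofArrows_surj hP x; exact ⟨k, z, hz⟩) ψ fun k => by
      rw [hψ k]
      exact isIso_of_gen (h.gen k) _ (by rw [homOfGen_app]; exact hδ k)
  exact ⟨N, hN, ⟨(asIso ψ).symm⟩⟩

end DescAppLib
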