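import Groth.Agent.DescAppLib.RigDesc
import Groth.Agent.CubeConsLib.IsoCls
import Groth.Agent.MiscFlat6.QALocus

/-!
# Rigidified classes of line bundles
-/

set_option autoImplicit false
set_option linter.style.haveILetI false
set_option backward.isDefEq.respectTransparency false
set_option backward.isDefEq.respectTransparency.types false
set_option maxHeartbeats 1000000

noncomputable section

universe u

open CategoryTheory CategoryTheory.Limits AlgebraicGeometry TopologicalSpace Opposite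
open CubeConsLib (pull pull_comp pull_cl cl_eq_iff cl_eq_one_iff exists_inverse IsoCls)
open KFlatLib (pb)

namespace DescAppLib

variable {X S : Scheme.{u}}

theorem pull_id (c : IsoCls X) : pull (𝟙 X) c = c := by
  induction c using Quotient.ind with
  | _ M => exact Quotient.sound ⟨(Scheme.Modules.pullbackId X).app M⟩

/-- A rigidified line bundle is determined by its pullbacks along a covering of the base. -/
theorem unique_family (f : X ⟶ S) {σ : S ⟶ X} {ι : Type u} (B : SecFam f σ ι)
    (hmem : Presieve.ofArrows B.Z B.F ∈ Scheme.fpqcPrecoverage S)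
    (hbij : ∀ (T : Scheme.{u}) (t : T ⟶ S), Flat t → Function.Bijective (pullback.snd f t).appTop)
    {L L' : X.Modules} (hL : PicF.IsInvertible L) (hL' : PicF.IsInvertible L')
    (hs : pull σ (CubeConsLib.cl L) = 1) (hs' : pull σ (CubeConsLib.cl L') = 1)
    (h : ∀ k, pull (B.mX k) (CubeConsLib.cl L) = pull (B.mX k) (CubeConsLib.cl L')) :
    CubeConsLib.cl L = CubeConsLib.cl L' := by
  let D := CohB1.tensorMod L (MiscFlat6.dual L')
  let d := CubeConsLib.cl (MiscFlat6.dual L')
  have hd : CubeConsLib.cl L' * d = 1 := cl_eq_one_iff.2 (MiscFlat6.nonempty_dualIso hL')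
  have hD : CubeConsLib.cl D = CubeConsLib.cl L * d := rfl
  have hk : ∀ k, Nonempty (pb (B.mX k) D ≅ pb (B.p k) (Coh.structureModule (B.Z k))) := fun k => by
    refine cl_eq_iff.1 ?_
    show pull (B.mX k) (CubeConsLib.cl D) = pull (B.p k) 1
    rw [map_one, hD, map_mul, h k, ← map_mul, hd, map_one]
  obtain ⟨M, -, hM⟩ := exists_descend_family f B.F hmem hbij D B.mX B.p B.H (fun k => Coh.structureModule (B.Z k))
    (fun k => MiscFlat6.isInvertible_structureModule _) (fun k => (hk k).some)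
  have hfD : pull f (CubeConsLib.cl M) = CubeConsLib.cl D := cl_eq_iff.2 hM
  have hM1 : CubeConsLib.cl M = 1 := by
    have h1 := congrArg (pull σ) hfD
    have h2 : pull σ d = 1 := by
      have := congrArg (pull σ) hd
      rwa [map_mul, hs', one_mul, map_one] at this
    rw [pull_comp, B.hσ, pull_id, hD, map_mul, hs, h2, one_mul] at h1
    exact h1
  rw [hM1, map_one, hD] at hfD
  calc CubeConsLib.cl L = CubeConsLib.cl L * (CubeConsLib.cl L' * d) := by rw [hd, mul_one]
    _ = CubeConsLib.cl L' * (CubeConsLib.cl L * d) := mul_left_comm _ _ _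
    _ = CubeConsLib.cl L' := by rw [← hfD, mul_one]

/-- **Descent of rigidified classes.** -/
theorem exists_descend_cls (f : X ⟶ S) {σ : S ⟶ X} {ι : Type u} (B : SecFam f σ ι)
    (hmem : Presieve.ofArrows B.Z B.F ∈ Scheme.fpqcPrecoverage S)
    (hbij : ∀ (T : Scheme.{u}) (t : T ⟶ S), Flat t → Function.Bijective (pullback.snd f t).appTop)
    (L : ∀ k, (B.P k).Modules) (hL : ∀ k, PicF.IsInvertible (L k))
    (hs : ∀ k, pull (B.s k) (CubeConsLib.cl (L k)) = 1)
    (hov : ∀ k l, pull (B.q₁ k l) (CubeConsLib.cl (L k)) = pull (B.q₂ k l) (CubeConsLib.cl (L l))) :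
    ∃ N : X.Modules, PicF.IsInvertible N ∧ pull σ (CubeConsLib.cl N) = 1 ∧
      ∀ k, pull (B.mX k) (CubeConsLib.cl N) = CubeConsLib.cl (L k) := by
  choose ε hε using fun k => CubeLib.exists_genOn_top (cl_eq_one_iff.1 (hs k))
  obtain ⟨N, hN, hN1, hN2⟩ := Rigd.exists_descend (B := B) (L := L) (ε := ε)
    ⟨hmem, hbij, hL, hε, fun k l => cl_eq_iff.1 (hov k l)⟩
  exact ⟨N, hN, cl_eq_one_iff.2 hN1, fun k => cl_eq_iff.2 (hN2 k)⟩

/-- A point-indexed subfamily of an fppf covering. -/
theorem exists_points_subfamily {T : Scheme.{u}} {R : Presieve T} (hR : R ∈ Scheme.fppfPrecoverage T) :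
    ∃ (U : T → Scheme.{u}) (g : ∀ t, U t ⟶ T), (∀ t, R (g t)) ∧ (∀ t, ∃ z, g t z = t) ∧
      Presieve.ofArrows U g ∈ Scheme.fppfPrecoverage T := by
  obtain ⟨h1, h2⟩ := hR
  have hex : ∀ t : T, ∃ (U : Scheme.{u}) (g : U ⟶ T), R g ∧ ∃ z, g z = t := fun t => by
    obtain ⟨_, _, ⟨hg⟩, z, hz⟩ := h1 t
    exact ⟨_, _, hg, z, hz⟩
  choose U g hg hz using hex
  exact ⟨U, g, hg, hz, (Scheme.ofArrows_mem_precoverage_iff _).2 ⟨fun t => ⟨t, hz t⟩, fun t => h2 (hg t)⟩⟩

section XT

variable (f : X ⟶ S) (σ : S ⟶ X) (hσ : σ ≫ f = 𝟙 S)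

theorem secT_proj (T : Over S) : PicF.secT f σ hσ T ≫ PicF.XTproj f T = 𝟙 T.left := pullback.lift_snd _ _ _

theorem secT_fst (T : Over S) : PicF.secT f σ hσ T ≫ pullback.fst f T.hom = T.hom ≫ σ := pullback.lift_fst _ _ _

theorem XTmap_fst {T T' : Over S} (g : T' ⟶ T) :
    PicF.XTmap f g ≫ pullback.fst f T.hom = pullback.fst f T'.hom :=
  (pullback.lift_fst _ _ _).trans (Category.comp_id _)

theorem XTmap_proj {T T' : Over S} (g : T' ⟶ T) :
    PicF.XTmap f g ≫ PicF.XTproj f T = PicF.XTproj f T' ≫ g.left := pullback.lift_snd _ _ _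

theorem secT_natural {T T' : Over S} (g : T' ⟶ T) :
    PicF.secT f σ hσ T' ≫ PicF.XTmap f g = g.left ≫ PicF.secT f σ hσ T := by
  apply pullback.hom_ext
  · rw [Category.assoc, XTmap_fst, secT_fst, Category.assoc, secT_fst, Over.w_assoc]
  · rw [Category.assoc, XTmap_proj, ← Category.assoc, secT_proj, Category.id_comp, Category.assoc, secT_proj,
      Category.comp_id]

theorem XTmap_comp {T T' T'' : Over S} (g' : T'' ⟶ T') (g : T' ⟶ T) :
    PicF.XTmap f g' ≫ PicF.XTmap f g = PicF.XTmap f (g' ≫ g) := by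
  apply pullback.hom_ext
  · rw [Category.assoc, XTmap_fst, XTmap_fst, XTmap_fst]
  · rw [Category.assoc, XTmap_proj, ← Category.assoc, XTmap_proj, XTmap_proj, Category.assoc, Over.comp_left]

theorem isPullback_XTmap {T T' : Over S} (g : T' ⟶ T) :
    IsPullback (PicF.XTmap f g) (PicF.XTproj f T') (PicF.XTproj f T) g.left := by
  refine IsPullback.of_right ?_ (XTmap_proj f g) (IsPullback.of_hasPullback f T.hom)
  rw [XTmap_fst, Over.w]
  exact IsPullback.of_hasPullback f T'.hom

/-- `O = f_*O` after all base changes of a base change. -/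
theorem bij_XT (ha : ∀ (T : Over S) (U : T.left.Opens), Function.Bijective ((PicF.XTproj f T).app U)) (T : Over S)
    (W : Scheme.{u}) (t : W ⟶ T.left) : Function.Bijective (pullback.snd (PicF.XTproj f T) t).appTop := by
  have H : IsPullback (pullback.fst (PicF.XTproj f T) t ≫ pullback.fst f T.hom) (pullback.snd (PicF.XTproj f T) t)
      f (t ≫ T.hom) := (IsPullback.of_hasPullback _ t).paste_horiz (IsPullback.of_hasPullback f T.hom)
  have hr : H.isoPullback.hom ≫ PicF.XTproj f (Over.mk (t ≫ T.hom)) = pullback.snd (PicF.XTproj f T) t :=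
    H.isoPullback_hom_snd
  rw [← hr, Scheme.Hom.comp_appTop]
  haveI : IsIso H.isoPullback.hom.appTop := inferInstanceAs (IsIso (H.isoPullback.hom.app ⊤))
  exact (ConcreteCategory.bijective_of_isIso H.isoPullback.hom.appTop).comp (ha (Over.mk (t ≫ T.hom)) ⊤)

/-- The family of base changes along maps to `T`. -/
def xtFam (T : Over S) {ι : Type u} (U : ι → Scheme.{u}) (g : ∀ k, U k ⟶ T.left) :
    SecFam (PicF.XTproj f T) (PicF.secT f σ hσ T) ι where
  Z := U
  F := g
  P k := PicF.XT f (AbDual.ovr T (g k))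
  mX k := PicF.XTmap f (AbDual.ovrHom T (g k))
  p k := PicF.XTproj f (AbDual.ovr T (g k))
  s k := PicF.secT f σ hσ (AbDual.ovr T (g k))
  H k := isPullback_XTmap f (AbDual.ovrHom T (g k))
  s_p k := secT_proj f σ hσ _
  s_mX k := secT_natural f σ hσ (AbDual.ovrHom T (g k))
  hσ := secT_proj f σ hσ T

/-- The overlap of the base changes, as a base change. -/
theorem exists_ovr_overlap (T : Over S) {ι : Type u} (U : ι → Scheme.{u}) (g : ∀ k, U k ⟶ T.left) (k l : ι) :
    ∃ j : P2 (PicF.XTproj f T) g k l ⟶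
        PicF.XT f (AbDual.ovr (AbDual.ovr T (g k)) (pullback.fst (g k) (g l))),
      j ≫ PicF.XTmap f (AbDual.ovrHom (AbDual.ovr T (g k)) (pullback.fst (g k) (g l))) = (xtFam f σ hσ T U g).q₁ k l ∧
      j ≫ PicF.XTmap f (Over.homMk (pullback.snd (g k) (g l)) (pullback.condition_assoc T.hom).symm :
          AbDual.ovr (AbDual.ovr T (g k)) (pullback.fst (g k) (g l)) ⟶ AbDual.ovr T (g l)) =
        (xtFam f σ hσ T U g).q₂ k l := by
  let B := xtFam f σ hσ T U g
  have hw : (pullback.fst (PicF.XTproj f T) (pullback.fst (g k) (g l) ≫ g k) ≫ pullback.fst f T.hom) ≫ f =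
      pullback.snd (PicF.XTproj f T) (pullback.fst (g k) (g l) ≫ g k) ≫
        (AbDual.ovr (AbDual.ovr T (g k)) (pullback.fst (g k) (g l))).hom := by
    show _ = _ ≫ pullback.fst (g k) (g l) ≫ g k ≫ T.hom
    rw [Category.assoc, pullback.condition (f := f), ← Category.assoc,
      pullback.condition (f := PicF.XTproj f T)]
    simp only [Category.assoc]
  refine ⟨pullback.lift (pullback.fst (PicF.XTproj f T) _ ≫ pullback.fst f T.hom)
    (pullback.snd (PicF.XTproj f T) _) hw, ?_, ?_⟩
  · apply pullback.hom_ext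
    · rw [Category.assoc, XTmap_fst, pullback.lift_fst,
        ← XTmap_fst f (AbDual.ovrHom T (g k))]
      exact ((Category.assoc _ _ _).symm.trans (congrArg (· ≫ pullback.fst f T.hom) (B.q₁_mX k l))).symm
    · rw [Category.assoc, XTmap_proj, pullback.lift_snd_assoc]
      exact (B.q₁_p k l).symm
  · apply pullback.hom_ext
    · rw [Category.assoc, XTmap_fst, pullback.lift_fst,
        ← XTmap_fst f (AbDual.ovrHom T (g l))]
      exact ((Category.assoc _ _ _).symm.trans (congrArg (· ≫ pullback.fst f T.hom) (B.q₂_mX k l))).symm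
    · rw [Category.assoc, XTmap_proj, pullback.lift_snd_assoc]
      exact (B.q₂_p k l).symm

end XT

end DescAppLib
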