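import Groth.Agent.DescAppLib.RigTrans

/-!
# The descent datum of a rigidified line bundle
-/

set_option autoImplicit false
set_option linter.style.haveILetI false
set_option backward.isDefEq.respectTransparency false
set_option backward.isDefEq.respectTransparency.types false
set_option maxHeartbeats 1000000

noncomputable section

universe u

open CategoryTheory CategoryTheory.Limits AlgebraicGeometry TopologicalSpace Opposite
open KFlatLib (pb puSec puSecLE)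
open QCohDescLib (pullLE compIso)
open AmpleLib (GenOn GenAt res)

namespace DescAppLib

/-- A family of base changes of a map with a section. -/
structure SecFam {X S : Scheme.{u}} (f : X ⟶ S) (σ : S ⟶ X) (ι : Type u) where
  /-- the bases -/
  Z : ι → Scheme.{u}
  /-- the covering maps -/
  F : ∀ k, Z k ⟶ S
  /-- the base changes -/
  P : ι → Scheme.{u}
  /-- the maps to the total space -/
  mX : ∀ k, P k ⟶ X
  /-- the projections -/
  p : ∀ k, P k ⟶ Z k
  /-- the sections -/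
  s : ∀ k, Z k ⟶ P k
  H : ∀ k, IsPullback (mX k) (p k) f (F k)
  s_p : ∀ k, s k ≫ p k = 𝟙 (Z k)
  s_mX : ∀ k, s k ≫ mX k = F k ≫ σ
  hσ : σ ≫ f = 𝟙 S

namespace SecFam

variable {X S : Scheme.{u}} {f : X ⟶ S} {σ : S ⟶ X} {ι : Type u} (B : SecFam f σ ι)

/-- The first projection of the overlap upstairs. -/
def q₁ (k l : ι) : P2 f B.F k l ⟶ B.P k :=
  (B.H k).lift (pullback.fst _ _) (pullback.snd _ _ ≫ pullback.fst (B.F k) (B.F l))
    (by rw [Category.assoc]; exact pullback.condition)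

/-- The second projection of the overlap upstairs. -/
def q₂ (k l : ι) : P2 f B.F k l ⟶ B.P l :=
  (B.H l).lift (pullback.fst _ _) (pullback.snd _ _ ≫ pullback.snd (B.F k) (B.F l))
    (by rw [Category.assoc, ← pullback.condition (f := B.F k)]; exact pullback.condition)

/-- The section of the overlap upstairs. -/
def s2 (k l : ι) : T2 B.F k l ⟶ P2 f B.F k l :=
  pullback.lift ((pullback.fst (B.F k) (B.F l) ≫ B.F k) ≫ σ) (𝟙 _)
    (by rw [Category.assoc, B.hσ, Category.comp_id, Category.id_comp])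

theorem q₁_mX (k l : ι) : B.q₁ k l ≫ B.mX k = pullback.fst f _ := (B.H k).lift_fst _ _ _
theorem q₁_p (k l : ι) : B.q₁ k l ≫ B.p k = pullback.snd f _ ≫ pullback.fst (B.F k) (B.F l) := (B.H k).lift_snd _ _ _
theorem q₂_mX (k l : ι) : B.q₂ k l ≫ B.mX l = pullback.fst f _ := (B.H l).lift_fst _ _ _
theorem q₂_p (k l : ι) : B.q₂ k l ≫ B.p l = pullback.snd f _ ≫ pullback.snd (B.F k) (B.F l) := (B.H l).lift_snd _ _ _

theorem s2_q₁ (k l : ι) : B.s2 k l ≫ B.q₁ k l = pullback.fst (B.F k) (B.F l) ≫ B.s k := by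
  apply (B.H k).hom_ext
  · rw [Category.assoc, q₁_mX, s2, pullback.lift_fst, Category.assoc, Category.assoc, B.s_mX]
  · rw [Category.assoc, q₁_p, s2, pullback.lift_snd_assoc, Category.id_comp, Category.assoc, B.s_p,
      Category.comp_id]

theorem s2_q₂ (k l : ι) : B.s2 k l ≫ B.q₂ k l = pullback.snd (B.F k) (B.F l) ≫ B.s l := by
  apply (B.H l).hom_ext
  · rw [Category.assoc, q₂_mX, s2, pullback.lift_fst, Category.assoc, Category.assoc, B.s_mX, pullback.condition_assoc]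
  · rw [Category.assoc, q₂_p, s2, pullback.lift_snd_assoc, Category.id_comp, Category.assoc, B.s_p,
      Category.comp_id]

/-- The comparison of a cone with the overlap upstairs. -/
def r2 {k l : ι} {Y : Scheme.{u}} (a : Y ⟶ B.P k) (b : Y ⟶ B.P l) (e : a ≫ B.mX k = b ≫ B.mX l) :
    Y ⟶ P2 f B.F k l :=
  pullback.lift (a ≫ B.mX k)
    (pullback.lift (a ≫ B.p k) (b ≫ B.p l)
      (by rw [Category.assoc, Category.assoc, ← (B.H k).w, ← (B.H l).w, reassoc_of% e]))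
    (by rw [pullback.lift_fst_assoc, Category.assoc, Category.assoc, (B.H k).w])

theorem r2_q₁ {k l : ι} {Y : Scheme.{u}} (a : Y ⟶ B.P k) (b : Y ⟶ B.P l) (e : a ≫ B.mX k = b ≫ B.mX l) :
    B.r2 a b e ≫ B.q₁ k l = a := by
  apply (B.H k).hom_ext
  · rw [Category.assoc, q₁_mX, r2, pullback.lift_fst]
  · rw [Category.assoc, q₁_p, r2, pullback.lift_snd_assoc, pullback.lift_fst]

theorem r2_q₂ {k l : ι} {Y : Scheme.{u}} (a : Y ⟶ B.P k) (b : Y ⟶ B.P l) (e : a ≫ B.mX k = b ≫ B.mX l) :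
    B.r2 a b e ≫ B.q₂ k l = b := by
  apply (B.H l).hom_ext
  · rw [Category.assoc, q₂_mX, r2, pullback.lift_fst, e]
  · rw [Category.assoc, q₂_p, r2, pullback.lift_snd_assoc, pullback.lift_snd]

theorem r2_unique {k l : ι} {Y : Scheme.{u}} {r r' : Y ⟶ P2 f B.F k l} (h₁ : r ≫ B.q₁ k l = r' ≫ B.q₁ k l)
    (h₂ : r ≫ B.q₂ k l = r' ≫ B.q₂ k l) : r = r' := by
  apply pullback.hom_ext
  · rw [← B.q₁_mX, reassoc_of% h₁]
  · apply pullback.hom_ext
    · rw [Category.assoc, Category.assoc, ← B.q₁_p, reassoc_of% h₁]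
    · rw [Category.assoc, Category.assoc, ← B.q₂_p, reassoc_of% h₂]

end SecFam

/-- Rigidified line bundles on the members, which agree on the overlaps. -/
structure Rigd {X S : Scheme.{u}} {f : X ⟶ S} {σ : S ⟶ X} {ι : Type u} (B : SecFam f σ ι)
    (L : ∀ k, (B.P k).Modules) (ε : ∀ k, Γ(pb (B.s k) (L k), ⊤)) : Prop where
  mem : Presieve.ofArrows B.Z B.F ∈ Scheme.fpqcPrecoverage S
  bij : ∀ (T : Scheme.{u}) (t : T ⟶ S), Flat t → Function.Bijective (pullback.snd f t).appTop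
  inv : ∀ k, PicF.IsInvertible (L k)
  gen : ∀ k, GenOn (pb (B.s k) (L k)) (ε k)
  ov : ∀ k l, Nonempty (pb (B.q₁ k l) (L k) ≅ pb (B.q₂ k l) (L l))

namespace Rigd

variable {X S : Scheme.{u}} {f : X ⟶ S} {σ : S ⟶ X} {ι : Type u} {B : SecFam f σ ι}
    {L : ∀ k, (B.P k).Modules} {ε : ∀ k, Γ(pb (B.s k) (L k), ⊤)} (h : Rigd B L ε)

include h

theorem flat (k : ι) : Flat (B.F k) := DescLib.ofArrows_flat h.mem k

theorem exists_ψ (k l : ι) : ∃ ψ : pb (B.q₁ k l) (L k) ⟶ pb (B.q₂ k l) (L l), IsIso ψ ∧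
    (trans ψ (B.s2 k l) (B.s2_q₁ k l) (B.s2_q₂ k l)).app ⊤
      (pullLE (L k) (pullback.fst (B.F k) (B.F l)) rfl (top_le _) (ε k)) =
        pullLE (L l) (pullback.snd (B.F k) (B.F l)) rfl (top_le _) (ε l) :=
  exists_rigid_iso (pullback.snd f _) (B.s2 k l) (pullback.lift_snd _ _ _) (h.ov k l).some _ _
    (genOn_pullLE _ _ rfl (top_le _) (h.gen k)) (genOn_pullLE _ _ rfl (top_le _) (h.gen l))

/-- The gluing maps. -/
def glue {k l : ι} {Y : Scheme.{u}} (a : Y ⟶ B.P k) (b : Y ⟶ B.P l) (e : a ≫ B.mX k = b ≫ B.mX l) :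
    pb a (L k) ⟶ pb b (L l) :=
  trans (h.exists_ψ k l).choose (B.r2 a b e) (B.r2_q₁ a b e) (B.r2_q₂ a b e)

theorem glue_eq {k l : ι} {Y : Scheme.{u}} (a : Y ⟶ B.P k) (b : Y ⟶ B.P l) (e : a ≫ B.mX k = b ≫ B.mX l)
    (r : Y ⟶ P2 f B.F k l) (e₁ : r ≫ B.q₁ k l = a) (e₂ : r ≫ B.q₂ k l = b) :
    h.glue a b e = trans (h.exists_ψ k l).choose r e₁ e₂ :=
  trans_congr _ (B.r2_unique (by rw [e₁, B.r2_q₁]) (by rw [e₂, B.r2_q₂])) _ _ _ _

theorem isIso_glue {k l : ι} {Y : Scheme.{u}} (a : Y ⟶ B.P k) (b : Y ⟶ B.P l) (e : a ≫ B.mX k = b ≫ B.mX l) :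
    IsIso (h.glue a b e) := by
  haveI := (h.exists_ψ k l).choose_spec.1
  unfold glue
  infer_instance

theorem glue_trans {k l : ι} {Y Y' : Scheme.{u}} (g : Y' ⟶ Y) (a : Y ⟶ B.P k) (b : Y ⟶ B.P l)
    (e : a ≫ B.mX k = b ≫ B.mX l) (a' : Y' ⟶ B.P k) (b' : Y' ⟶ B.P l) (ha : g ≫ a = a') (hb : g ≫ b = b')
    (e' : a' ≫ B.mX k = b' ≫ B.mX l) : trans (h.glue a b e) g ha hb = h.glue a' b' e' := by
  rw [h.glue_eq a' b' e' (g ≫ B.r2 a b e) (by rw [Category.assoc, B.r2_q₁, ha])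
    (by rw [Category.assoc, B.r2_q₂, hb])]
  exact trans_trans _ _ _ _ _ _ _ _ _

theorem glue_sec {k l : ι} {Y : Scheme.{u}} (α : Y ⟶ B.Z k) (β : Y ⟶ B.Z l) (e₀ : α ≫ B.F k = β ≫ B.F l)
    (a : Y ⟶ B.P k) (b : Y ⟶ B.P l) (ha : α ≫ B.s k = a) (hb : β ≫ B.s l = b)
    (e : a ≫ B.mX k = b ≫ B.mX l) :
    (h.glue a b e).app ⊤ (pullLE (L k) α ha (top_le _) (ε k)) = pullLE (L l) β hb (top_le _) (ε l) := by
  let y : Y ⟶ T2 B.F k l := pullback.lift α β e₀
  have y₁ : y ≫ pullback.fst (B.F k) (B.F l) = α := pullback.lift_fst _ _ _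
  have y₂ : y ≫ pullback.snd (B.F k) (B.F l) = β := pullback.lift_snd _ _ _
  have c₁ : (y ≫ B.s2 k l) ≫ B.q₁ k l = a := by rw [Category.assoc, B.s2_q₁, ← Category.assoc, y₁, ha]
  have c₂ : (y ≫ B.s2 k l) ≫ B.q₂ k l = b := by rw [Category.assoc, B.s2_q₂, ← Category.assoc, y₂, hb]
  have d₁ : y ≫ pullback.fst (B.F k) (B.F l) ≫ B.s k = a := by rw [← Category.assoc, y₁, ha]
  have d₂ : y ≫ pullback.snd (B.F k) (B.F l) ≫ B.s l = b := by rw [← Category.assoc, y₂, hb]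
  rw [h.glue_eq a b e (y ≫ B.s2 k l) c₁ c₂,
    ← trans_trans (h.exists_ψ k l).choose (B.s2 k l) y (B.s2_q₁ k l) (B.s2_q₂ k l) d₁ d₂ c₁ c₂,
    QCohDescLib.pullLE_congr (L k) y₁.symm ha (by rw [Category.assoc]; exact d₁) (top_le _) (top_le _),
    ← QCohDescLib.pullLE_pullLE (L k) (pullback.fst (B.F k) (B.F l)) y rfl d₁ _ (top_le _) (top_le _) (top_le _),
    trans_pullLE, (h.exists_ψ k l).choose_spec.2,
    QCohDescLib.pullLE_pullLE (L l) (pullback.snd (B.F k) (B.F l)) y rfl d₂ (by rw [Category.assoc]; exact d₂)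
      (top_le _) (top_le _) (top_le _)]
  exact QCohDescLib.pullLE_congr (L l) y₂ _ _ _ _ _

theorem glue_comp {k l m : ι} {Y : Scheme.{u}} (a : Y ⟶ B.P k) (b : Y ⟶ B.P l) (c : Y ⟶ B.P m)
    (e₁ : a ≫ B.mX k = b ≫ B.mX l) (e₂ : b ≫ B.mX l = c ≫ B.mX m) :
    h.glue a b e₁ ≫ h.glue b c e₂ = h.glue a c (e₁.trans e₂) := by
  haveI := h.flat
  let T3 := pullback (pullback.snd (B.F k) (B.F l) ≫ B.F l) (B.F m)
  let pr := pullback.fst (pullback.snd (B.F k) (B.F l) ≫ B.F l) (B.F m)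
  let α : T3 ⟶ B.Z k := pr ≫ pullback.fst (B.F k) (B.F l)
  let β : T3 ⟶ B.Z l := pr ≫ pullback.snd (B.F k) (B.F l)
  let δ : T3 ⟶ B.Z m := pullback.snd _ _
  have t₁ : α ≫ B.F k = β ≫ B.F l := by simp only [α, β, Category.assoc, pullback.condition]
  have t₂ : β ≫ B.F l = δ ≫ B.F m := by
    simp only [β, δ, Category.assoc]; exact pullback.condition
  let q := pullback.snd f (α ≫ B.F k)
  let x := pullback.fst f (α ≫ B.F k)
  have hc : x ≫ f = (q ≫ α) ≫ B.F k := pullback.condition.trans (Category.assoc _ _ _).symm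
  have hc' : x ≫ f = (q ≫ β) ≫ B.F l := hc.trans (((Category.assoc q α _).trans (congrArg (q ≫ ·) t₁)).trans (Category.assoc q β _).symm)
  have hc'' : x ≫ f = (q ≫ δ) ≫ B.F m := hc'.trans (((Category.assoc q β _).trans (congrArg (q ≫ ·) t₂)).trans (Category.assoc q δ _).symm)
  let A := (B.H k).lift x (q ≫ α) hc
  let B' := (B.H l).lift x (q ≫ β) hc'
  let C := (B.H m).lift x (q ≫ δ) hc''
  have E₁ : A ≫ B.mX k = B' ≫ B.mX l := ((B.H k).lift_fst _ _ _).trans ((B.H l).lift_fst _ _ _).symm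
  have E₂ : B' ≫ B.mX l = C ≫ B.mX m := ((B.H l).lift_fst _ _ _).trans ((B.H m).lift_fst _ _ _).symm
  let s3 : T3 ⟶ pullback f (α ≫ B.F k) :=
    pullback.lift ((α ≫ B.F k) ≫ σ) (𝟙 _) (by rw [Category.assoc, B.hσ, Category.comp_id, Category.id_comp])
  have sA : s3 ≫ A = α ≫ B.s k := by
    apply (B.H k).hom_ext
    · simp only [A, Category.assoc, (B.H k).lift_fst, B.s_mX, x, s3, pullback.lift_fst]
    · simp only [A, Category.assoc, (B.H k).lift_snd, B.s_p, q, s3, pullback.lift_snd_assoc, Category.id_comp,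
        Category.comp_id]
  have sB : s3 ≫ B' = β ≫ B.s l := by
    apply (B.H l).hom_ext
    · simp only [B', Category.assoc, (B.H l).lift_fst, B.s_mX, x, s3, pullback.lift_fst]
      rw [reassoc_of% t₁]
    · simp only [B', Category.assoc, (B.H l).lift_snd, B.s_p, q, s3, pullback.lift_snd_assoc, Category.id_comp,
        Category.comp_id]
  have sC : s3 ≫ C = δ ≫ B.s m := by
    apply (B.H m).hom_ext
    · simp only [C, Category.assoc, (B.H m).lift_fst, B.s_mX, x, s3, pullback.lift_fst]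
      rw [reassoc_of% t₁, reassoc_of% t₂]
    · simp only [C, Category.assoc, (B.H m).lift_snd, B.s_p, q, s3, pullback.lift_snd_assoc, Category.id_comp,
        Category.comp_id]
  have hfl : Flat (α ≫ B.F k) := by
    rw [t₁]; simp only [β, Category.assoc]; infer_instance
  -- the universal case
  have key : h.glue A B' E₁ ≫ h.glue B' C E₂ = h.glue A C (E₁.trans E₂) := by
    haveI := h.isIso_glue A C (E₁.trans E₂)
    refine rigid_ext q s3 (pullback.lift_snd _ _ _) (h.bij _ _ hfl).2 (AmpleDevLib.isInvertible_pb C (h.inv m)) _ _ ?_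
    refine map_eq_of_trans_eq s3 sA sC ?_
    have F₁ : (α ≫ B.s k) ≫ B.mX k = (β ≫ B.s l) ≫ B.mX l := by
      rw [← sA, ← sB]; exact (Category.assoc _ _ _).trans ((congrArg (s3 ≫ ·) E₁).trans (Category.assoc _ _ _).symm)
    have F₂ : (β ≫ B.s l) ≫ B.mX l = (δ ≫ B.s m) ≫ B.mX m := by
      rw [← sB, ← sC]; exact (Category.assoc _ _ _).trans ((congrArg (s3 ≫ ·) E₂).trans (Category.assoc _ _ _).symm)
    rw [← trans_comp (h.glue A B' E₁) (h.glue B' C E₂) s3 sA sB sC, h.glue_trans s3 A B' E₁ _ _ sA sB F₁,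
      h.glue_trans s3 B' C E₂ _ _ sB sC F₂, h.glue_trans s3 A C _ _ _ sA sC (F₁.trans F₂)]
    refine hom_ext_gen (genOn_pullLE (L k) α rfl (top_le _) (h.gen k)) ?_
    rw [app_comp_apply, h.glue_sec α β t₁ _ _ rfl rfl F₁, h.glue_sec β δ t₂ _ _ rfl rfl F₂,
      h.glue_sec α δ (t₁.trans t₂) _ _ rfl rfl (F₁.trans F₂)]
  have g₁ : (a ≫ B.p k) ≫ B.F k = (b ≫ B.p l) ≫ B.F l := by
    rw [Category.assoc, Category.assoc, ← (B.H k).w, ← (B.H l).w, reassoc_of% e₁]
  have g₂ : (b ≫ B.p l) ≫ B.F l = (c ≫ B.p m) ≫ B.F m := by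
    rw [Category.assoc, Category.assoc, ← (B.H l).w, ← (B.H m).w, reassoc_of% e₂]
  let y : Y ⟶ T3 := pullback.lift (pullback.lift (a ≫ B.p k) (b ≫ B.p l) g₁) (c ≫ B.p m)
    (by rw [pullback.lift_snd_assoc]; exact g₂)
  have yα : y ≫ α = a ≫ B.p k := by simp only [y, α, pr, pullback.lift_fst_assoc, pullback.lift_fst]
  have yβ : y ≫ β = b ≫ B.p l := by simp only [y, β, pr, pullback.lift_fst_assoc, pullback.lift_snd]
  have yδ : y ≫ δ = c ≫ B.p m := pullback.lift_snd _ _ _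
  let r : Y ⟶ pullback f (α ≫ B.F k) :=
    pullback.lift (a ≫ B.mX k) y (by rw [← Category.assoc y, yα, Category.assoc, Category.assoc, (B.H k).w])
  have r₁ : r ≫ x = a ≫ B.mX k := pullback.lift_fst _ _ _
  have r₂ : r ≫ q = y := pullback.lift_snd _ _ _
  have rA : r ≫ A = a := by
    apply (B.H k).hom_ext
    · simp only [A, Category.assoc, (B.H k).lift_fst, r₁]
    · simp only [A, Category.assoc, (B.H k).lift_snd, reassoc_of% r₂, yα]
  have rB : r ≫ B' = b := by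
    apply (B.H l).hom_ext
    · simp only [B', Category.assoc, (B.H l).lift_fst, r₁, e₁]
    · simp only [B', Category.assoc, (B.H l).lift_snd, reassoc_of% r₂, yβ]
  have rC : r ≫ C = c := by
    apply (B.H m).hom_ext
    · simp only [C, Category.assoc, (B.H m).lift_fst, r₁, e₁, e₂]
    · simp only [C, Category.assoc, (B.H m).lift_snd, reassoc_of% r₂, yδ]
  rw [← h.glue_trans r A B' E₁ a b rA rB e₁, ← h.glue_trans r B' C E₂ b c rB rC e₂,
    ← h.glue_trans r A C (E₁.trans E₂) a c rA rC, trans_comp, key]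

theorem glue_self {k : ι} {Y : Scheme.{u}} (a : Y ⟶ B.P k) : h.glue a a rfl = 𝟙 _ := by
  haveI := h.isIso_glue a a rfl
  exact (cancel_epi (h.glue a a rfl)).1 ((h.glue_comp a a a rfl rfl).trans (Category.comp_id _).symm)

/-- The descent datum. -/
def datum : Desc.modPF.{u}.DescentData B.mX where
  obj k := L k
  hom Y q k l a b ha hb := h.glue a b (ha.trans hb.symm)
  pullHom_hom Y' Y g q q' hq k l a b ha hb a' b' ha' hb' := by
    simp only [Pseudofunctor.LocallyDiscreteOpToCat.pullHom]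
    rw [QCohDescLib.mapComp'_hom_app a g a' ha', QCohDescLib.mapComp'_inv_app b g b' hb']
    exact h.glue_trans g a b _ a' b' ha' hb' _
  hom_self Y q k a ha := h.glue_self a
  hom_comp Y q k l m a b c ha hb hc := h.glue_comp a b c _ _

end Rigd

end DescAppLib
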