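import Groth.Agent.DescAppLib.RigData
import Groth.Agent.TwistLib.SpecSections

/-!
# Descent of rigidified line bundles
-/

set_option autoImplicit false
set_option linter.style.haveILetI false
set_option backward.isDefEq.respectTransparency false
set_option backward.isDefEq.respectTransparency.types false
set_option maxHeartbeats 1000000

noncomputable section

universe u

open CategoryTheory CategoryTheory.Limits AlgebraicGeometry TopologicalSpace Opposite
open KFlatLib (pb puSec puSecLE)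
open QCohDescLib (pullLE compIso)
open AmpleLib (GenOn GenAt res)

namespace DescAppLib

/-- A module whose pullbacks along an fpqc family are invertible is invertible. -/
theorem isInvertible_of_family' {ι : Type u} {S : Scheme.{u}} {P : ι → Scheme.{u}} (F : ∀ k, P k ⟶ S)
    (hf : Presieve.ofArrows P F ∈ Scheme.fpqcPrecoverage S) (N : S.Modules)
    (hN : ∀ k, PicF.IsInvertible (pb (F k) N)) : PicF.IsInvertible N := by
  choose U e hxU he using fun k x => TwistLib.exists_genOn (hN k) x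
  let Z : (Σ k : ι, (P k : Type u)) → Scheme.{u} := fun a => U a.1 a.2
  let G : ∀ a, Z a ⟶ S := fun a => (U a.1 a.2).ι ≫ F a.1
  have hG : Presieve.ofArrows Z G ∈ Scheme.fpqcPrecoverage S := by
    refine Precoverage.comp_mem_coverings F hf (fun k (x : P k) => (U k x).ι) fun k => ?_
    refine Scheme.zariskiPrecoverage_le_fpqcPrecoverage _ ?_
    exact (Scheme.ofArrows_mem_precoverage_iff _).2 ⟨fun y => ⟨y, ⟨y, hxU k y⟩, rfl⟩, fun _ => inferInstance⟩
  have le : ∀ a : (Σ k : ι, (P k : Type u)), (⊤ : (Z a).Opens) ≤ (U a.1 a.2).ι ⁻¹ᵁ U a.1 a.2 := fun a =>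
    le_of_eq (U a.1 a.2).ι_preimage_self.symm
  refine isInvertible_of_family G hG N (fun a => pullLE N (U a.1 a.2).ι rfl (le a) (e a.1 a.2)) fun a => ?_
  rw [QCohDescLib.pullLE_eq_compIso]
  exact genOn_app_iso (compIso N (U a.1 a.2).ι (h := F a.1) rfl) (CubeLib.genOn_puSecLE _ (he a.1 a.2) (le a))

theorem app_hom_inv {W : Scheme.{u}} {A B : W.Modules} (e : A ≅ B) (O : W.Opens) (x : Γ(A, O)) :
    e.inv.app O (e.hom.app O x) = x :=
  congr($(congrArg (fun φ => Scheme.Modules.Hom.app φ O) e.hom_inv_id) x)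

theorem app_inv_hom {W : Scheme.{u}} {A B : W.Modules} (e : A ≅ B) (O : W.Opens) (x : Γ(B, O)) :
    e.hom.app O (e.inv.app O x) = x :=
  congr($(congrArg (fun φ => Scheme.Modules.Hom.app φ O) e.inv_hom_id) x)

theorem comp_appLE_top {P Q : Scheme.{u}} (g : P ⟶ Q) : (⊤ : P.Opens) ≤ g ⁻¹ᵁ ⊤ := top_le g

variable {X S : Scheme.{u}} {f : X ⟶ S} {σ : S ⟶ X} {ι : Type u} {B : SecFam f σ ι}
    {L : ∀ k, (B.P k).Modules} {ε : ∀ k, Γ(pb (B.s k) (L k), ⊤)}

theorem SecFam.mem_mX (B : SecFam f σ ι) (h : Presieve.ofArrows B.Z B.F ∈ Scheme.fpqcPrecoverage S) :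
    Presieve.ofArrows B.P B.mX ∈ Scheme.fpqcPrecoverage X :=
  Precoverage.mem_coverings_of_isPullback B.F h f B.mX B.p B.H

/-- The sections of the descended module along the section. -/
theorem Rigd.exists_genOn_descend (h : Rigd B L ε) (N : X.Modules) (hN : Coh.IsQCoh N)
    (θ : ∀ k, pb (B.mX k) N ≅ L k)
    (hθ : ∀ k l (Y : Scheme.{u}) (a : Y ⟶ B.P k) (b : Y ⟶ B.P l) (q : Y ⟶ X) (ha : a ≫ B.mX k = q)
      (hb : b ≫ B.mX l = q), (Scheme.Modules.pullback a).map (θ k).hom ≫ h.glue a b (ha.trans hb.symm) =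
        ((compIso N a ha).hom ≫ (compIso N b hb).inv) ≫ (Scheme.Modules.pullback b).map (θ l).hom) :
    ∃ t : Γ(pb σ N, ⊤), GenOn (pb σ N) t := by
  haveI := h.flat
  haveI : Coh.IsQCoh (pb σ N) := KFlatLib.isQCoh_pullback σ N
  have hη : ∀ k, ∃ η : Γ(pb (B.s k) (pb (B.mX k) N), ⊤),
      GenOn _ η ∧ ((Scheme.Modules.pullback (B.s k)).map (θ k).hom).app ⊤ η = ε k := fun k =>
    ⟨_, genOn_app_iso ((Scheme.Modules.pullback (B.s k)).mapIso (θ k)).symm (h.gen k),
      app_inv_hom ((Scheme.Modules.pullback (B.s k)).mapIso (θ k)) ⊤ _⟩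
  choose η hηgen hη using hη
  have he : ∀ k, ∃ e : Γ(pb (B.F k) (pb σ N), ⊤), GenOn _ e ∧
      (compIso N (B.F k) (h := σ) rfl).hom.app ⊤ e = (compIso N (B.s k) (B.s_mX k)).hom.app ⊤ (η k) := fun k =>
    ⟨_, genOn_app_iso (compIso N (B.F k) (h := σ) rfl).symm
      (genOn_app_iso (compIso N (B.s k) (B.s_mX k)) (hηgen k)), app_inv_hom _ _ _⟩
  choose e hegen he using he
  have hc : ∀ k l (Y : Scheme.{u}) (a₀ : Y ⟶ B.Z k) (b₀ : Y ⟶ B.Z l) (y : Y ⟶ S) (ea : a₀ ≫ B.F k = y)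
      (eb : b₀ ≫ B.F l = y), pullLE (pb σ N) a₀ ea (top_le a₀) (e k) = pullLE (pb σ N) b₀ eb (top_le b₀) (e l) := by
    intro k l Y a₀ b₀ y ea eb
    have qa : (a₀ ≫ B.s k) ≫ B.mX k = y ≫ σ := by rw [Category.assoc, B.s_mX, reassoc_of% ea]
    have qb : (b₀ ≫ B.s l) ≫ B.mX l = y ≫ σ := by rw [Category.assoc, B.s_mX, reassoc_of% eb]
    have pa : a₀ ≫ B.F k ≫ σ = y ≫ σ := by rw [reassoc_of% ea]
    have pb' : b₀ ≫ B.F l ≫ σ = y ≫ σ := by rw [reassoc_of% eb]
    refine (ConcreteCategory.bijective_of_isIso ((compIso N y (h := σ) rfl).hom.app ⊤)).1 ?_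
    rw [QCohDescLib.compIso_pullLE N σ a₀ ea pa, QCohDescLib.compIso_pullLE N σ b₀ eb pb', he, he]
    -- the two elements over the common map
    have hn : ∀ m (c₀ : Y ⟶ B.Z m) (qc : (c₀ ≫ B.s m) ≫ B.mX m = y ≫ σ) (pc : c₀ ≫ B.F m ≫ σ = y ≫ σ),
        (compIso N (c₀ ≫ B.s m) qc).hom.app ⊤ (pullLE (pb (B.mX m) N) c₀ rfl (top_le c₀) (η m)) =
          pullLE N c₀ pc (top_le c₀) ((compIso N (B.s m) (B.s_mX m)).hom.app ⊤ (η m)) := by
      intro m c₀ qc pc
      have h1 : ∀ (W : Scheme.{u}) (g : W ⟶ B.P m) {q' : W ⟶ X} (eq : g ≫ B.mX m = q') (x : Γ(pb g (pb (B.mX m) N), ⊤)),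
          (compIso N g eq).hom.app ⊤ x =
            ((Scheme.Modules.pullbackCongr eq).hom.app N).app ⊤ ((compIso N g (h := B.mX m) rfl).hom.app ⊤ x) := by
        intro W g q' eq x
        subst eq
        simp [compIso, Scheme.Modules.pullbackCongr]
      rw [h1 _ _ qc, QCohDescLib.compIso_pullLE N (B.mX m) c₀ rfl (by rw [Category.assoc]),
        h1 _ _ (B.s_mX m)]
      generalize (compIso N (B.s m) (h := B.mX m) rfl).hom.app ⊤ (η m) = z
      have h2 : ∀ {g₁ g₂ : B.Z m ⟶ X} (r : g₁ = g₂) {d₁ d₂ : Y ⟶ X} (r' : d₁ = d₂) (u₁ : c₀ ≫ g₁ = d₁)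
          (u₂ : c₀ ≫ g₂ = d₂) (z : Γ(pb g₁ N, ⊤)),
          ((Scheme.Modules.pullbackCongr r').hom.app N).app ⊤ (pullLE N c₀ u₁ (top_le c₀) z) =
            pullLE N c₀ u₂ (top_le c₀) (((Scheme.Modules.pullbackCongr r).hom.app N).app ⊤ z) := by
        intro g₁ g₂ r d₁ d₂ r' u₁ u₂ z
        subst r r'
        simp [Scheme.Modules.pullbackCongr]
      exact h2 (B.s_mX m) qc _ _ z
    rw [← hn k a₀ qa pa, ← hn l b₀ qb pb']
    have key := congr($(congrArg (fun φ => Scheme.Modules.Hom.app φ ⊤)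
      (hθ k l Y (a₀ ≫ B.s k) (b₀ ≫ B.s l) (y ≫ σ) qa qb)) (pullLE (pb (B.mX k) N) a₀ rfl (top_le a₀) (η k)))
    rw [app_comp_apply, app_comp_apply, app_comp_apply, QCohDescLib.pullLE_natural, hη,
      h.glue_sec a₀ b₀ (ea.trans eb.symm) _ _ rfl rfl (qa.trans qb.symm), ← hη l,
      ← QCohDescLib.pullLE_natural] at key
    refine (ConcreteCategory.bijective_of_isIso ((compIso N (b₀ ≫ B.s l) qb).inv.app ⊤)).1 ?_
    refine ((ConcreteCategory.bijective_of_isIso
      (((Scheme.Modules.pullback (b₀ ≫ B.s l)).map (θ l).hom).app ⊤)).1 key.symm).trans ?_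
    exact (app_hom_inv (compIso N (b₀ ≫ B.s l) qb) ⊤ _).symm
  obtain ⟨t, ht⟩ := QCohDescLib.exists_descend_section B.F h.mem (pb σ N) ⊤ e
    fun k l Y a b y ea eb O la lb => by
      have k' := congrArg ((pb y (pb σ N)).presheaf.map (homOfLE (le_top : O ≤ ⊤)).op) (hc k l Y a b y ea eb)
      exact (QCohDescLib.map_pullLE (pb σ N) a ea (top_le a) le_top la (e k)).symm.trans
        (k'.trans (QCohDescLib.map_pullLE (pb σ N) b eb (top_le b) le_top lb (e l)))
  refine ⟨t, TwistLib.genOn_of_genAt fun x hx => ?_⟩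
  obtain ⟨k, z, rfl⟩ := DescLib.ofArrows_surj h.mem x
  refine genAt_of_puSec (B.F k) hx ?_
  rw [ht k]
  exact (hegen k).genAt trivial

/-- **Descent of a rigidified line bundle.** -/
theorem Rigd.exists_descend (h : Rigd B L ε) :
    ∃ N : X.Modules, PicF.IsInvertible N ∧ Nonempty (pb σ N ≅ Coh.structureModule S) ∧
      ∀ k, Nonempty (pb (B.mX k) N ≅ L k) := by
  have hP := B.mem_mX h.mem
  haveI : ∀ k, Coh.IsQCoh (QCohDescLib.dObj h.datum k) := fun k => TwistLib.isQCoh_of_isInvertible (h.inv k)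
  haveI : ∀ k, IsIso (QCohDescLib.evI h.datum k) := fun k => QCohDescLib.isIso_evI h.datum hP k
  let θ : ∀ k, pb (B.mX k) (QCohDescLib.dMod h.datum) ≅ L k := fun k =>
    @asIso _ _ _ _ (QCohDescLib.evI h.datum k) (QCohDescLib.isIso_evI h.datum hP k)
  have hinv : PicF.IsInvertible (QCohDescLib.dMod h.datum) := isInvertible_of_family' B.mX hP _ fun k =>
    HilbPolyLib.isInvertible_of_iso (θ k).symm (h.inv k)
  obtain ⟨t, ht⟩ := h.exists_genOn_descend _ (QCohDescLib.isQCoh_dMod h.datum hP) θ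
    fun k l Y a b q ha hb => by
      have := QCohDescLib.evI_comm h.datum a b q ha hb
      rw [QCohDescLib.dHom_eq h.datum a b q ha hb] at this
      exact this
  exact ⟨_, hinv, CubeLib.trivial_of_genOn_top ht, fun k => ⟨θ k⟩⟩

end DescAppLib
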