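import Groth.Agent.DescAppLib.LineApps
import Groth.Agent.AVThetaLib.Scalar

/-!
# Transport of morphisms between pullbacks, and rigidity of invertible modules
-/

set_option autoImplicit false
set_option linter.style.haveILetI false
set_option backward.isDefEq.respectTransparency false
set_option backward.isDefEq.respectTransparency.types false
set_option maxHeartbeats 1000000

noncomputable section

universe u

open CategoryTheory CategoryTheory.Limits AlgebraicGeometry TopologicalSpace Opposite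
open KFlatLib (pb puSec puSecLE)
open QCohDescLib (pullLE compIso)
open AmpleLib (GenOn GenAt res)
open StabLib (smulHom smulHom_app)

namespace DescAppLib

variable {Y₁ Y₂ Y₃ W W' W'' : Scheme.{u}} {M : Y₁.Modules} {N : Y₂.Modules} {Q : Y₃.Modules}
  {h₁ : W ⟶ Y₁} {h₂ : W ⟶ Y₂} {h₃ : W ⟶ Y₃}

/-- Transport of a morphism between pullbacks along a map of the common source. -/
def trans (ψ : pb h₁ M ⟶ pb h₂ N) (r : W' ⟶ W) {h₁' : W' ⟶ Y₁} {h₂' : W' ⟶ Y₂} (e₁ : r ≫ h₁ = h₁')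
    (e₂ : r ≫ h₂ = h₂') : pb h₁' M ⟶ pb h₂' N :=
  (compIso M r e₁).inv ≫ (Scheme.Modules.pullback r).map ψ ≫ (compIso N r e₂).hom

theorem trans_pullLE (ψ : pb h₁ M ⟶ pb h₂ N) (r : W' ⟶ W) {h₁' : W' ⟶ Y₁} {h₂' : W' ⟶ Y₂} (e₁ : r ≫ h₁ = h₁')
    (e₂ : r ≫ h₂ = h₂') {O : W.Opens} {O' : W'.Opens} (le : O' ≤ r ⁻¹ᵁ O) (x : Γ(pb h₁ M, O)) :
    (trans ψ r e₁ e₂).app O' (pullLE M r e₁ le x) = pullLE N r e₂ le (ψ.app O x) := by
  rw [QCohDescLib.pullLE_eq_compIso, QCohDescLib.pullLE_eq_compIso, ← CohCmpLib.puSecLE_natural]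
  show (compIso N r e₂).hom.app O' (((Scheme.Modules.pullback r).map ψ).app O'
    ((compIso M r e₁).inv.app O' ((compIso M r e₁).hom.app O' _))) = _
  rw [show (compIso M r e₁).inv.app O' ((compIso M r e₁).hom.app O' (puSecLE r (pb h₁ M) le x)) =
    puSecLE r (pb h₁ M) le x from
      congr($(congrArg (fun φ => Scheme.Modules.Hom.app φ O') (compIso M r e₁).hom_inv_id) _)]

/-- Maps out of a pullback agree if they agree on sections pulled along a map. -/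
theorem hom_ext_pullLE (r : W' ⟶ W) {h₁' : W' ⟶ Y₁} (e₁ : r ≫ h₁ = h₁') {N' : W'.Modules} {a b : pb h₁' M ⟶ N'}
    (h : ∀ (O : W.Opens) (x : Γ(pb h₁ M, O)),
      a.app (r ⁻¹ᵁ O) (pullLE M r e₁ le_rfl x) = b.app (r ⁻¹ᵁ O) (pullLE M r e₁ le_rfl x)) : a = b := by
  rw [← cancel_epi (compIso M r e₁).hom]
  refine QCohDescLib.hom_ext_puSec (pb h₁ M) fun O x => ?_
  have := h O x
  rw [QCohDescLib.pullLE_eq_compIso, QCohDescLib.puSecLE_rfl] at this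
  exact this

theorem trans_congr (ψ : pb h₁ M ⟶ pb h₂ N) {r r' : W' ⟶ W} (hr : r = r') {h₁' : W' ⟶ Y₁} {h₂' : W' ⟶ Y₂}
    (e₁ : r ≫ h₁ = h₁') (e₂ : r ≫ h₂ = h₂') (e₁' : r' ≫ h₁ = h₁') (e₂' : r' ≫ h₂ = h₂') :
    trans ψ r e₁ e₂ = trans ψ r' e₁' e₂' := by
  subst hr; rfl

theorem trans_trans (ψ : pb h₁ M ⟶ pb h₂ N) (r : W' ⟶ W) (r' : W'' ⟶ W') {h₁' : W' ⟶ Y₁} {h₂' : W' ⟶ Y₂}
    (e₁ : r ≫ h₁ = h₁') (e₂ : r ≫ h₂ = h₂') {h₁'' : W'' ⟶ Y₁} {h₂'' : W'' ⟶ Y₂} (e₁' : r' ≫ h₁' = h₁'')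
    (e₂' : r' ≫ h₂' = h₂'') (c₁ : (r' ≫ r) ≫ h₁ = h₁'') (c₂ : (r' ≫ r) ≫ h₂ = h₂'') :
    trans (trans ψ r e₁ e₂) r' e₁' e₂' = trans ψ (r' ≫ r) c₁ c₂ := by
  refine hom_ext_pullLE (r' ≫ r) c₁ fun O x => ?_
  have a₁ := QCohDescLib.pullLE_pullLE M r r' e₁ e₁' c₁ (le_refl (r ⁻¹ᵁ O)) (le_refl (r' ⁻¹ᵁ (r ⁻¹ᵁ O)))
    (le_refl ((r' ≫ r) ⁻¹ᵁ O)) x
  have a₂ := QCohDescLib.pullLE_pullLE N r r' e₂ e₂' c₂ (le_refl (r ⁻¹ᵁ O)) (le_refl (r' ⁻¹ᵁ (r ⁻¹ᵁ O)))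
    (le_refl ((r' ≫ r) ⁻¹ᵁ O)) (ψ.app O x)
  have b₁ := trans_pullLE (trans ψ r e₁ e₂) r' e₁' e₂' (le_refl (r' ⁻¹ᵁ (r ⁻¹ᵁ O))) (pullLE M r e₁ le_rfl x)
  have b₂ := congrArg (pullLE N r' e₂' (le_refl (r' ⁻¹ᵁ (r ⁻¹ᵁ O)))) (trans_pullLE ψ r e₁ e₂ (le_refl (r ⁻¹ᵁ O)) x)
  exact (congrArg ((trans (trans ψ r e₁ e₂) r' e₁' e₂').app _) a₁.symm).trans
    (((b₁.trans b₂).trans a₂).trans (trans_pullLE ψ (r' ≫ r) c₁ c₂ le_rfl x).symm)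

theorem app_comp_apply {A B C : W.Modules} (a : A ⟶ B) (b : B ⟶ C) (O : W.Opens) (x : Γ(A, O)) :
    (a ≫ b).app O x = b.app O (a.app O x) := rfl

theorem trans_comp (ψ : pb h₁ M ⟶ pb h₂ N) (χ : pb h₂ N ⟶ pb h₃ Q) (r : W' ⟶ W) {h₁' : W' ⟶ Y₁}
    {h₂' : W' ⟶ Y₂} {h₃' : W' ⟶ Y₃} (e₁ : r ≫ h₁ = h₁') (e₂ : r ≫ h₂ = h₂') (e₃ : r ≫ h₃ = h₃') :
    trans ψ r e₁ e₂ ≫ trans χ r e₂ e₃ = trans (ψ ≫ χ) r e₁ e₃ := by
  refine hom_ext_pullLE r e₁ fun O x => ?_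
  rw [app_comp_apply, trans_pullLE, trans_pullLE, trans_pullLE, app_comp_apply]

theorem trans_id (r : W' ⟶ W) {h₁' : W' ⟶ Y₁} (e₁ : r ≫ h₁ = h₁') : trans (𝟙 (pb h₁ M)) r e₁ e₁ = 𝟙 _ := by
  refine hom_ext_pullLE r e₁ fun O x => ?_
  rw [trans_pullLE]
  rfl

theorem trans_smulHom (c : Γ(W, ⊤)) (r : W' ⟶ W) {h₁' : W' ⟶ Y₁} (e₁ : r ≫ h₁ = h₁') :
    trans (smulHom (pb h₁ M) c) r e₁ e₁ = smulHom (pb h₁' M) (r.appTop c) := by
  refine hom_ext_pullLE r e₁ fun O x => ?_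
  rw [trans_pullLE, smulHom_app, smulHom_app, QCohDescLib.pullLE_smul]
  refine congrArg (fun t => t • _) ?_
  rw [← Scheme.Hom.app_eq_appLE]
  exact congr($(r.naturality (homOfLE (le_top : O ≤ ⊤)).op) c)

instance isIso_trans (ψ : pb h₁ M ⟶ pb h₂ N) [IsIso ψ] (r : W' ⟶ W) {h₁' : W' ⟶ Y₁} {h₂' : W' ⟶ Y₂}
    (e₁ : r ≫ h₁ = h₁') (e₂ : r ≫ h₂ = h₂') : IsIso (trans ψ r e₁ e₂) := by
  unfold trans
  infer_instance

theorem map_eq_of_trans_eq {ψ χ : pb h₁ M ⟶ pb h₂ N} (r : W' ⟶ W) {h₁' : W' ⟶ Y₁} {h₂' : W' ⟶ Y₂}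
    (e₁ : r ≫ h₁ = h₁') (e₂ : r ≫ h₂ = h₂') (h : trans ψ r e₁ e₂ = trans χ r e₁ e₂) :
    (Scheme.Modules.pullback r).map ψ = (Scheme.Modules.pullback r).map χ := by
  rw [trans, trans, cancel_epi, cancel_mono] at h
  exact h

section Rigid

variable {P : Scheme.{u}} (p : P ⟶ W) (s : W ⟶ P)

theorem appTop_section (hs : s ≫ p = 𝟙 W) (w : Γ(W, ⊤)) : s.appTop (p.appTop w) = w :=
  appTop_comp s p hs w

/-- An endomorphism of an invertible module which is the identity along a section is the identity. -/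
theorem rigid_endo (hs : s ≫ p = 𝟙 W) (hp : Function.Surjective p.appTop) {L : P.Modules}
    (hL : PicF.IsInvertible L) (θ : L ⟶ L) (h : (Scheme.Modules.pullback s).map θ = 𝟙 _) : θ = 𝟙 L := by
  obtain ⟨c, rfl⟩ := AVThetaLib.exists_eq_smulHom hL θ
  obtain ⟨w, rfl⟩ := hp c
  rw [AVThetaLib.pullback_map_smulHom, appTop_section p s hs, ← AVThetaLib.smulHom_one] at h
  rw [AVThetaLib.smulHom_injective (AmpleDevLib.isInvertible_pb s hL) h, map_one, AVThetaLib.smulHom_one]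

/-- Two isomorphisms of invertible modules which agree along a section agree. -/
theorem rigid_ext (hs : s ≫ p = 𝟙 W) (hp : Function.Surjective p.appTop) {A B : P.Modules}
    (hB : PicF.IsInvertible B) (φ φ' : A ⟶ B) [IsIso φ']
    (h : (Scheme.Modules.pullback s).map φ = (Scheme.Modules.pullback s).map φ') : φ = φ' := by
  have h1 : inv φ' ≫ φ = 𝟙 B := rigid_endo p s hs hp hB _ (by
    rw [Functor.map_comp, h, ← Functor.map_comp, IsIso.inv_hom_id, CategoryTheory.Functor.map_id])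
  exact ((IsIso.inv_comp_eq φ').1 h1).trans (Category.comp_id φ')

/-- Isomorphisms between pullbacks can be normalised along a section. -/
theorem exists_rigid_iso {h₁ : P ⟶ Y₁} {h₂ : P ⟶ Y₂} (hs : s ≫ p = 𝟙 W) (ψ₀ : pb h₁ M ≅ pb h₂ N)
    {a : W ⟶ Y₁} {b : W ⟶ Y₂} (e₁ : s ≫ h₁ = a) (e₂ : s ≫ h₂ = b) {e : Γ(pb a M, ⊤)} {e' : Γ(pb b N, ⊤)}
    (he : GenOn (pb a M) e) (he' : GenOn (pb b N) e') :
    ∃ ψ : pb h₁ M ⟶ pb h₂ N, IsIso ψ ∧ (trans ψ s e₁ e₂).app ⊤ e = e' := by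
  let φ := trans ψ₀.hom s e₁ e₂
  have hg : GenOn (pb b N) (φ.app ⊤ e) := genOn_app_iso (asIso φ) he
  obtain ⟨c, hc⟩ := (hg ⊤ le_rfl).2 e'
  simp only [AmpleLib.res_refl] at hc
  have hu : IsUnit c := CubeLib.isUnit_of_genOn hg (hc.symm ▸ he')
  obtain ⟨d, hd⟩ := isUnit_iff_exists_inv.1 (hu.map p.appTop.hom)
  refine ⟨ψ₀.hom ≫ smulHom (pb h₂ N) (p.appTop c), ?_, ?_⟩
  · haveI : IsIso (smulHom (pb h₂ N) (p.appTop c)) := ⟨smulHom (pb h₂ N) d, by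
      rw [AVThetaLib.smulHom_mul, mul_comm, hd, AVThetaLib.smulHom_one], by
      rw [AVThetaLib.smulHom_mul, hd, AVThetaLib.smulHom_one]⟩
    infer_instance
  · rw [← trans_comp ψ₀.hom _ s e₁ e₂ e₂, app_comp_apply, trans_smulHom, appTop_section p s hs, smulHom_app, ← hc]
    exact congrArg (fun t => t • φ.app ⊤ e) congr($(W.presheaf.map_id _) c)

end Rigid

end DescAppLib
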