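import Groth.Agent.DescAppLib.GG
import Groth.Agent.CubeLib.Glue
import Groth.Agent.TwistLib.ProjSymExt
import Groth.Agent.H0Lib.Descent
import Mathlib.RingTheory.LocalRing.Module
import Mathlib.RingTheory.Finiteness.Descent

/-!
# Triviality of line bundles descends along faithfully flat extensions, for semi-local global functions
-/

set_option autoImplicit false
set_option linter.style.haveILetI false
set_option maxHeartbeats 800000

noncomputable section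

universe u

open CategoryTheory CategoryTheory.Limits AlgebraicGeometry TopologicalSpace Opposite TensorProduct
open KFlatLib (pb puSec puSecLE)

namespace DescAppLib

theorem finrank_quotient_tensor {R R' : Type u} [CommRing R] [CommRing R'] [Algebra R R']
    [Module.FaithfullyFlat R R'] {M : Type u} [AddCommGroup M] [Module R M]
    (e : R' ⊗[R] M ≃ₗ[R'] R') (P : Ideal R) [P.IsMaximal] :
    Module.finrank (R ⧸ P) ((R ⧸ P) ⊗[R] M) = 1 := by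
  letI := Ideal.Quotient.field P
  obtain ⟨Q, hQ, hQP⟩ := Ideal.exists_isPrime_liesOver_of_faithfullyFlat (B := R') P
  haveI : Q.LiesOver P := hQP
  obtain ⟨N, hN, hQN⟩ := Q.exists_le_maximal hQ.ne_top
  letI := Ideal.Quotient.field N
  have hle : P ≤ N.comap (algebraMap R R') := by
    rw [hQP.over]; exact Ideal.comap_mono hQN
  letI : Algebra (R ⧸ P) (R' ⧸ N) := (Ideal.quotientMap N (algebraMap R R') hle).toAlgebra
  haveI : IsScalarTower R (R ⧸ P) (R' ⧸ N) := IsScalarTower.of_algebraMap_eq fun _ => rfl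
  let c₁ := AlgebraTensorModule.cancelBaseChange R (R ⧸ P) (R' ⧸ N) (R' ⧸ N) M
  let c₂ := AlgebraTensorModule.cancelBaseChange R R' (R' ⧸ N) (R' ⧸ N) M
  let c₃ := AlgebraTensorModule.congr (LinearEquiv.refl (R' ⧸ N) (R' ⧸ N)) e
  let c₄ := AlgebraTensorModule.rid R' (R' ⧸ N) (R' ⧸ N)
  rw [← Module.finrank_baseChange (R := R' ⧸ N), (c₁.trans (c₂.symm.trans (c₃.trans c₄))).finrank_eq,
    Module.finrank_self]

theorem exists_generator {R R' : Type u} [CommRing R] [CommRing R'] [Algebra R R'] [Module.FaithfullyFlat R R']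
    [Finite (MaximalSpectrum R)] {M : Type u} [AddCommGroup M] [Module R M] (e : R' ⊗[R] M ≃ₗ[R'] R') :
    ∃ s : M, ∀ m, ∃ r : R, r • s = m := by
  haveI : Module.Finite R M := by
    haveI : Module.Finite R' (R' ⊗[R] M) := Module.Finite.equiv e.symm
    exact Module.Finite.of_finite_tensorProduct_of_faithfullyFlat R'
  haveI : Module.Flat R M := by
    haveI : Module.Flat R' (R' ⊗[R] M) := Module.Flat.of_linearEquiv e
    exact Module.Flat.of_flat_tensorProduct R M R'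
  obtain ⟨b⟩ := Module.nonempty_basis_of_flat_of_finrank_eq R M 1 fun P => finrank_quotient_tensor e P.1
  exact ⟨b 0, fun m => ⟨b.repr m 0, by simpa using b.sum_repr m⟩⟩

theorem top_le_preimage {P Q : Scheme.{u}} (g : P ⟶ Q) : (⊤ : P.Opens) ≤ g ⁻¹ᵁ ⊤ := fun _ _ => trivial

variable {X X' : Scheme.{u}} {A A' : CommRingCat.{u}} {f : X ⟶ Spec A} {φ : A ⟶ A'} {f' : X' ⟶ Spec A'}
  {g : X' ⟶ X}

/-- Global sections of a flat base change of a quasi-coherent module. -/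
theorem isBaseChange_global (sq : IsPullback g f' f (Spec.map φ)) (hφ : φ.hom.Flat) [QuasiCompact f]
    [QuasiSeparated f] (M : X.Modules) [Coh.IsQCoh M] :
    letI := g.appTop.hom.toAlgebra
    letI := Module.compHom Γ(pb g M, ⊤) g.appTop.hom
    haveI : IsScalarTower Γ(X, ⊤) Γ(X', ⊤) Γ(pb g M, ⊤) := IsScalarTower.of_algebraMap_smul fun _ _ => rfl
    ∃ ψ : Γ(M, ⊤) →ₗ[Γ(X, ⊤)] Γ(pb g M, ⊤), IsBaseChange Γ(X', ⊤) ψ ∧ ∀ m, ψ m = puSecLE g M (top_le_preimage g) m := by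
  letI := g.appTop.hom.toAlgebra
  letI := Module.compHom Γ(pb g M, ⊤) g.appTop.hom
  haveI : IsScalarTower Γ(X, ⊤) Γ(X', ⊤) Γ(pb g M, ⊤) := IsScalarTower.of_algebraMap_smul fun _ _ => rfl
  haveI : Flat (Spec.map φ) := (HasRingHomProperty.Spec_iff (P := @Flat)).mpr hφ
  let ψ : Γ(M, ⊤) →ₗ[Γ(X, ⊤)] Γ(pb g M, ⊤) :=
    { toFun := puSecLE g M (top_le_preimage g)
      map_add' := map_add _
      map_smul' := fun r m => by
        show puSecLE g M (top_le_preimage g) (r • m) = g.appTop r • puSecLE g M (top_le_preimage g) m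
        rw [KFlatLib.puSecLE_smul]
        congr 1
        exact congr($((Scheme.Hom.app_eq_appLE g (U := ⊤)).symm) r) }
  refine ⟨ψ, ?_, fun m => rfl⟩
  have hg : (⊤ : (Spec A').Opens) ≤ Spec.map φ ⁻¹ᵁ ⊤ := fun _ _ => trivial
  letI := ((Spec.map φ).appLE ⊤ ⊤ hg).hom.toAlgebra
  have hpo := H0Lib.isPushout_appTop sq hφ
  letI : Algebra Γ(Spec A, ⊤) Γ(X, ⊤) := f.appTop.hom.toAlgebra
  letI : Algebra Γ(Spec A', ⊤) Γ(X', ⊤) := f'.appTop.hom.toAlgebra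
  letI : Algebra Γ(Spec A, ⊤) Γ(X', ⊤) :=
    (f'.appTop.hom.comp (algebraMap Γ(Spec A, ⊤) Γ(Spec A', ⊤))).toAlgebra
  have e0 : (Spec.map φ).appLE ⊤ ⊤ hg = (Spec.map φ).appTop := (Scheme.Hom.app_eq_appLE _).symm
  haveI : IsScalarTower Γ(Spec A, ⊤) Γ(Spec A', ⊤) Γ(X', ⊤) := IsScalarTower.of_algebraMap_eq fun _ => rfl
  haveI : IsScalarTower Γ(Spec A, ⊤) Γ(X, ⊤) Γ(X', ⊤) := IsScalarTower.of_algebraMap_eq fun r => by
    show f'.appTop ((Spec.map φ).appLE ⊤ ⊤ hg r) = g.appTop (f.appTop r)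
    rw [e0]
    exact congr($(hpo.w.symm) r)
  haveI : Algebra.IsPushout Γ(Spec A, ⊤) Γ(Spec A', ⊤) Γ(X, ⊤) Γ(X', ⊤) := by
    refine (CommRingCat.isPushout_iff_isPushout (R := Γ(Spec A, ⊤)) (S := Γ(X, ⊤)) (R' := Γ(Spec A', ⊤))
      (S' := Γ(X', ⊤))).mp ?_
    show IsPushout ((Spec.map φ).appLE ⊤ ⊤ hg) f.appTop f'.appTop g.appTop
    rw [e0]
    exact hpo.flip
  letI : Module Γ(Spec A, ⊤) Γ(M, ⊤) := Module.compHom Γ(M, ⊤) f.appTop.hom
  haveI : IsScalarTower Γ(Spec A, ⊤) Γ(X, ⊤) Γ(M, ⊤) := IsScalarTower.of_algebraMap_smul fun _ _ => rfl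
  have hb := RpushLib.bijective_bc_zero sq M (isAffineOpen_top _) (isAffineOpen_top _) hg
  let c : Γ(Spec A', ⊤) ⊗[Γ(Spec A, ⊤)] Γ(M, ⊤) ≃ₗ[Γ(Spec A', ⊤)] Γ(X', ⊤) ⊗[Γ(X, ⊤)] Γ(M, ⊤) :=
    (Algebra.IsPushout.cancelBaseChange Γ(Spec A, ⊤) Γ(Spec A', ⊤) Γ(X, ⊤) Γ(X', ⊤) Γ(M, ⊤)).symm
  let Ψ := ψ.liftBaseChange Γ(X', ⊤)
  have hU : g ⁻¹ᵁ (f ⁻¹ᵁ ⊤) ⊓ f' ⁻¹ᵁ ⊤ = ⊤ := top_le_iff.1 fun _ _ => ⟨trivial, trivial⟩
  let r : Γ(pb g M, ⊤) → Γ(pb g M, g ⁻¹ᵁ (f ⁻¹ᵁ ⊤) ⊓ f' ⁻¹ᵁ ⊤) :=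
    (pb g M).presheaf.map (homOfLE le_top).op
  have hr : Function.Bijective r := by
    have : IsIso (homOfLE (le_top : g ⁻¹ᵁ (f ⁻¹ᵁ ⊤) ⊓ f' ⁻¹ᵁ ⊤ ≤ ⊤)) :=
      ⟨homOfLE hU.ge, Subsingleton.elim _ _, Subsingleton.elim _ _⟩
    exact ConcreteCategory.bijective_of_isIso ((pb g M).presheaf.map (homOfLE le_top).op)
  let σ₀ := RpushLib.secMap₀ (σ := algebraMap Γ(Spec A, ⊤) Γ(Spec A', ⊤)) g (f.app ⊤).hom
    (f'.appLE ⊤ (g ⁻¹ᵁ (f ⁻¹ᵁ ⊤) ⊓ f' ⁻¹ᵁ ⊤) inf_le_right).hom inf_le_left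
    (fun r => congr($(RpushLib.bc_compat sq hg inf_le_left inf_le_right) r))
    ((Scheme.Modules.pullbackPushforwardAdjunction g).unit.app M)
  have key : ∀ z : Γ(Spec A', ⊤) ⊗[Γ(Spec A, ⊤)] Γ(M, ⊤), r (Ψ (c z)) =
      (show Γ(pb g M, g ⁻¹ᵁ (f ⁻¹ᵁ ⊤) ⊓ f' ⁻¹ᵁ ⊤) from RpushLib.extSL σ₀ z) := by
    intro z
    induction z using TensorProduct.induction_on with
    | zero =>
      rw [map_zero, map_zero]
      exact (map_zero ((pb g M).presheaf.map (homOfLE le_top).op).hom).trans (map_zero (RpushLib.extSL σ₀)).symm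
    | tmul b m =>
      refine Eq.trans ?_ (RpushLib.extSL_tmul σ₀ b m).symm
      show r (Ψ ((Algebra.IsPushout.cancelBaseChange Γ(Spec A, ⊤) Γ(Spec A', ⊤) Γ(X, ⊤) Γ(X', ⊤) Γ(M, ⊤)).symm (b ⊗ₜ m))) = _
      rw [Algebra.IsPushout.cancelBaseChange_symm_tmul, LinearMap.liftBaseChange_tmul]
      refine (Scheme.Modules.map_smul (pb g M) _ (f'.appTop b) _).trans ?_
      refine congr_arg₂ (fun (a : Γ(X', _)) (w : Γ(pb g M, _)) => a • w) ?_ ?_
      · rfl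
      · exact AmpleLib.res_res (pb g M) _ _ (puSec g m)
    | add a b ha hb =>
      rw [map_add, map_add]
      exact (map_add ((pb g M).presheaf.map (homOfLE le_top).op).hom _ _).trans
        ((congrArg₂ (fun (a : Γ(pb g M, g ⁻¹ᵁ (f ⁻¹ᵁ ⊤) ⊓ f' ⁻¹ᵁ ⊤)) b => a + b) ha hb).trans
          (map_add (RpushLib.extSL σ₀) a b).symm)
  have hΨ : Function.Bijective Ψ := by
    refine (Function.Bijective.of_comp_iff' hr Ψ).1 ((Function.Bijective.of_comp_iff _ c.bijective).1 ?_)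
    rw [show (r ∘ ⇑Ψ) ∘ ⇑c = _ from funext key]
    exact hb
  exact IsBaseChange.of_equiv (LinearEquiv.ofBijective Ψ hΨ) fun m =>
    (LinearMap.liftBaseChange_tmul Γ(X', ⊤) ψ 1 m).trans (one_smul _ _)

theorem faithfullyFlat_global (sq : IsPullback g f' f (Spec.map φ)) (hφ : φ.hom.FaithfullyFlat) [QuasiCompact f]
    [QuasiSeparated f] : g.appTop.hom.FaithfullyFlat := by
  have hpo := H0Lib.isPushout_appTop sq hφ.flat
  letI : Algebra Γ(Spec A, ⊤) Γ(Spec A', ⊤) := (Spec.map φ).appTop.hom.toAlgebra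
  letI : Algebra Γ(Spec A, ⊤) Γ(X, ⊤) := f.appTop.hom.toAlgebra
  letI : Algebra Γ(Spec A', ⊤) Γ(X', ⊤) := f'.appTop.hom.toAlgebra
  letI : Algebra Γ(X, ⊤) Γ(X', ⊤) := g.appTop.hom.toAlgebra
  letI : Algebra Γ(Spec A, ⊤) Γ(X', ⊤) :=
    (f'.appTop.hom.comp (algebraMap Γ(Spec A, ⊤) Γ(Spec A', ⊤))).toAlgebra
  haveI : IsScalarTower Γ(Spec A, ⊤) Γ(Spec A', ⊤) Γ(X', ⊤) := IsScalarTower.of_algebraMap_eq fun _ => rfl
  haveI : IsScalarTower Γ(Spec A, ⊤) Γ(X, ⊤) Γ(X', ⊤) :=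
    IsScalarTower.of_algebraMap_eq fun r => congr($(hpo.w.symm) r)
  haveI : Algebra.IsPushout Γ(Spec A, ⊤) Γ(Spec A', ⊤) Γ(X, ⊤) Γ(X', ⊤) :=
    (CommRingCat.isPushout_iff_isPushout (R := Γ(Spec A, ⊤)) (S := Γ(X, ⊤)) (R' := Γ(Spec A', ⊤))
      (S' := Γ(X', ⊤))).mp hpo.flip
  exact RingHom.FaithfullyFlat.isStableUnderBaseChange Γ(Spec A, ⊤) Γ(Spec A', ⊤) Γ(X, ⊤) Γ(X', ⊤)
    ((Flat.flat_and_surjective_iff_faithfullyFlat_of_isAffine (f := Spec.map φ)).1 ((flat_and_surjective_SpecMap_iff φ).2 hφ))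

theorem nonempty_iso_structure (sq : IsPullback g f' f (Spec.map φ)) (hφ : φ.hom.FaithfullyFlat) [QuasiCompact f]
    [QuasiSeparated f] [Finite (MaximalSpectrum Γ(X, ⊤))] {L : X.Modules} (hL : PicF.IsInvertible L) [Coh.IsQCoh L]
    (htriv : Nonempty (pb g L ≅ Coh.structureModule X')) : Nonempty (L ≅ Coh.structureModule X) := by
  obtain ⟨γ, hγ⟩ := CubeLib.exists_genOn_top htriv
  letI := g.appTop.hom.toAlgebra
  letI := Module.compHom Γ(pb g L, ⊤) g.appTop.hom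
  haveI : IsScalarTower Γ(X, ⊤) Γ(X', ⊤) Γ(pb g L, ⊤) := IsScalarTower.of_algebraMap_smul fun _ _ => rfl
  obtain ⟨ψ, hψ, hψe⟩ := isBaseChange_global sq hφ.flat L
  haveI : Module.FaithfullyFlat Γ(X, ⊤) Γ(X', ⊤) := RingHom.faithfullyFlat_algebraMap_iff.1 (faithfullyFlat_global sq hφ)
  let eγ : Γ(X', ⊤) ≃ₗ[Γ(X', ⊤)] Γ(pb g L, ⊤) :=
    LinearEquiv.ofBijective (LinearMap.toSpanSingleton Γ(X', ⊤) Γ(pb g L, ⊤) γ) (by
      have := hγ ⊤ le_rfl
      simp only [AmpleLib.res_refl] at this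
      exact this)
  obtain ⟨s, hs⟩ := exists_generator (hψ.equiv.trans eγ.symm)
  have hall : ∀ z, ∃ c : Γ(X', ⊤), c • ψ s = hψ.equiv z := fun z => by
    induction z using TensorProduct.induction_on with
    | zero => exact ⟨0, by rw [zero_smul, map_zero]⟩
    | tmul b m =>
      obtain ⟨r, rfl⟩ := hs m
      exact ⟨b * g.appTop r, by rw [IsBaseChange.equiv_tmul, map_smul, mul_smul]; rfl⟩
    | add a b ha hb =>
      obtain ⟨ca, hca⟩ := ha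
      obtain ⟨cb, hcb⟩ := hb
      exact ⟨ca + cb, by rw [add_smul, hca, hcb, map_add]⟩
  obtain ⟨c, hc⟩ : ∃ c : Γ(X', ⊤), c • ψ s = γ := by
    obtain ⟨c, hc⟩ := hall (hψ.equiv.symm γ)
    exact ⟨c, hc.trans (hψ.equiv.apply_symm_apply γ)⟩
  have hgen : AmpleLib.GenOn (pb g L) (W := g ⁻¹ᵁ ⊤) (ψ s) := by
    obtain ⟨a, ha⟩ := (hγ ⊤ le_rfl).2 (ψ s)
    simp only [AmpleLib.res_refl] at ha
    rw [← ha]
    refine CubeLib.genOn_unit_smul hγ (isUnit_iff_exists_inv'.2 ⟨c, eγ.injective ?_⟩)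
    show (c * a) • γ = (1 : Γ(X', ⊤)) • γ
    rw [mul_smul, ha, hc, one_smul]
  refine CubeLib.trivial_of_genOn_top (s := s) (TwistLib.genOn_of_genAt fun x _ => ?_)
  haveI : Surjective g := by
    haveI : Surjective (Spec.map φ) := ((flat_and_surjective_SpecMap_iff φ).2 hφ).2
    exact MorphismProperty.of_isPullback (P := @Surjective) sq.flip inferInstance
  obtain ⟨x', rfl⟩ := g.surjective x
  obtain ⟨U, e, hxU, he⟩ := TwistLib.exists_genOn hL (g x')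
  refine (TwistLib.genAt_puSec_iff g he s hxU).1 ?_
  have := hgen.genAt (x := x') trivial
  have e1 : (ψ s : Γ(pb g L, g ⁻¹ᵁ ⊤)) = puSec g s := (hψe s).trans (QCohDescLib.puSecLE_rfl L s)
  rwa [e1] at this

end DescAppLib
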